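import Cfsg.Agent.OutLin.Basic
import Cfsg.Agent.LeechModel.Basic
import Cfsg.Agent.Leech.ModTwo
import Cfsg.Agent.Leech.Generators

/-!
The lattice modulo two as binary vectors, with automorphisms acting by matrices.
-/

set_option autoImplicit false

namespace Cfsg.Agent.OutLin

open Cfsg Cfsg.Agent.Compute Cfsg.Agent.StemCert

/-- A basis certificate: coordinate lists, functionals, and combinations giving the generators. -/
structure BasisCert where
  /-- The basis. -/
  B : List (List ℤ)
  /-- Functionals. -/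
  L : List (List ℤ)
  /-- Their common value. -/
  K : ℤ
  /-- The coefficients of the odd vector. -/
  odd : List ℤ
  /-- The coefficients of the vectors `4 eᵢ + 4 e₀`. -/
  plus : List (List ℤ)
  /-- The coefficients of the vectors `4 eᵢ - 4 e₀`. -/
  minus : List (List ℤ)
  /-- The coefficients of twice the code basis. -/
  code : List (List ℤ)

variable (BC : BasisCert)

/-- A basis vector as a function. -/
def BasisCert.fn (i : ℕ) : GolayPt → ℤ := Leech.ofL (BC.B.getD i [])

/-- A combination of the basis. -/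
def BasisCert.comb (c : List ℤ) (p : GolayPt) : ℤ := ∑ i : Fin 24, c.getD i 0 * BC.fn i p

/-- The checks. -/
structure BasisCert.Good : Prop where
  parity : ∀ (i : Fin 24) (p : GolayPt), BC.fn i p = BC.fn i none + 2 * ((BC.fn i p - BC.fn i none) / 2)
  sums : ∀ i : Fin 24, (8 : ℤ) ∣ (∑ p, BC.fn i p) - 4 * BC.fn i none
  code_mem : ∀ i : Fin 24, Leech.dec (Leech.red2 fun p => (BC.fn i p - BC.fn i none) / 2) =
    Leech.red2 fun p => (BC.fn i p - BC.fn i none) / 2
  shape : ∀ i : Fin 24, Leech.toL (BC.fn i) = BC.B.getD i []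
  ne : BC.K ≠ 0
  dual : ∀ i j : Fin 24, dotInt (Leech.ofL (BC.L.getD j [])) (BC.fn i) = if i = j then BC.K else 0
  odd_eq : ∀ p, BC.comb BC.odd p = Leech.vecOdd p
  plus_eq : ∀ i : GolayPt, i ≠ none → ∀ p, BC.comb (BC.plus.getD (Leech.idx i) []) p =
    (Pi.single i 4 + Pi.single none 4 : GolayPt → ℤ) p
  minus_eq : ∀ i : GolayPt, i ≠ none → ∀ p, BC.comb (BC.minus.getD (Leech.idx i) []) p =
    (Pi.single i 4 - Pi.single none 4 : GolayPt → ℤ) p
  code_eq : ∀ (i : Fin 12) (p : GolayPt), BC.comb (BC.code.getD i []) p = 2 * Leech.valVec (Leech.row i) p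

variable {BC} (h : BC.Good)

/-- A basis vector. -/
noncomputable def BasisCert.Good.vec (i : Fin 24) : leechLattice :=
  ⟨BC.fn i, Leech.mem_of_parity _ _ (h.parity i) (h.sums i) (h.code_mem i)⟩

theorem vec_span (x : leechLattice) : ∃ c : Fin 24 → ℤ, x = ∑ i, c i • h.vec i := by
  let H : AddSubgroup (GolayPt → ℤ) :=
    { carrier := {y | ∃ c : Fin 24 → ℤ, y = ∑ i, c i • BC.fn i}
      zero_mem' := ⟨0, by simp⟩
      add_mem' := by
        rintro a b ⟨c, rfl⟩ ⟨d, rfl⟩
        exact ⟨c + d, by simp [add_smul, Finset.sum_add_distrib]⟩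
      neg_mem' := by
        rintro a ⟨c, rfl⟩
        exact ⟨-c, by simp⟩ }
  have hcomb : ∀ (c : List ℤ) (y : GolayPt → ℤ), (∀ p, BC.comb c p = y p) → y ∈ H :=
    fun c y e => ⟨fun i => c.getD i 0, funext fun p => by
      rw [← e p, BasisCert.comb, Finset.sum_apply]
      rfl⟩
  have hle : leechLattice ≤ H := by
    refine Leech.lattice_le H (hcomb _ _ h.odd_eq)
      (fun i hi => ⟨hcomb _ _ (h.plus_eq i hi), hcomb _ _ (h.minus_eq i hi)⟩)
      (Set.range Leech.row) Leech.golayCode_eq_span.le ?_ ?_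
    · rintro _ ⟨i, rfl⟩; exact Leech.row_mem i
    · rintro _ ⟨i, rfl⟩; exact hcomb _ _ (h.code_eq i)
  obtain ⟨c, hc⟩ := hle x.2
  refine ⟨c, Subtype.ext ?_⟩
  rw [hc, AddSubgroup.val_finsetSum]
  exact Finset.sum_congr rfl fun i _ => rfl

/-- The class of a binary vector. -/
noncomputable def BasisCert.Good.enc (x : ℕ) : leechLattice ⧸ Leech.twoSub :=
  Leech.cls (∑ i : Fin 24, if x.testBit i then h.vec i else 0)

theorem two_cls (v : leechLattice) : Leech.cls v + Leech.cls v = 0 := by
  rw [Leech.cls, ← QuotientAddGroup.mk_add, ← QuotientAddGroup.mk_zero]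
  refine Leech.cls_eq.mpr ⟨(v : GolayPt → ℤ), v.2, ?_⟩
  rw [AddSubgroup.coe_zero, sub_zero, AddSubgroup.coe_add, two_nsmul]

theorem cls_add (v w : leechLattice) : Leech.cls (v + w) = Leech.cls v + Leech.cls w := rfl

theorem cls_sum {α : Type*} (s : Finset α) (f : α → leechLattice) :
    Leech.cls (∑ a ∈ s, f a) = ∑ a ∈ s, Leech.cls (f a) :=
  map_sum (QuotientAddGroup.mk' Leech.twoSub) f s

theorem cls_zsmul (c : ℤ) (v : leechLattice) :
    Leech.cls (c • v) = if c % 2 = 0 then 0 else Leech.cls v := by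
  have e : Leech.cls (c • v) = c • Leech.cls v := map_zsmul (QuotientAddGroup.mk' Leech.twoSub) c v
  rw [e]
  conv_lhs => rw [← Int.emod_add_ediv_mul c 2]
  rw [add_zsmul, mul_zsmul, two_zsmul, two_cls, smul_zero, add_zero]
  rcases Int.emod_two_eq c with h | h <;> simp [h]

theorem enc_xor (x y : ℕ) : h.enc (x ^^^ y) = h.enc x + h.enc y := by
  rw [BasisCert.Good.enc, BasisCert.Good.enc, BasisCert.Good.enc, cls_sum, cls_sum, cls_sum,
    ← Finset.sum_add_distrib]
  refine Finset.sum_congr rfl fun i _ => ?_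
  simp only [Nat.testBit_xor]
  have h0 : Leech.cls (0 : leechLattice) = 0 := rfl
  cases x.testBit i <;> cases y.testBit i <;> simp [h0, two_cls]

theorem enc_injective : Function.Injective fun x : Fin (2 ^ 24) => h.enc x := by
  intro x y e
  have e0 : h.enc ((x : ℕ) ^^^ (y : ℕ)) = Leech.cls 0 := by
    rw [enc_xor h, show h.enc (x : ℕ) = h.enc (y : ℕ) from e]
    exact two_cls _
  obtain ⟨z, hz, hzeq⟩ := Leech.cls_eq.mp e0
  obtain ⟨c, hc⟩ := vec_span h ⟨z, hz⟩
  have hdot : ∀ (d : Fin 24 → ℤ) (j : Fin 24),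
      dotInt (Leech.ofL (BC.L.getD j [])) (∑ i, d i • BC.fn i) = d j * BC.K := by
    intro d j
    have : dotInt (Leech.ofL (BC.L.getD j [])) (∑ i, d i • BC.fn i) =
        ∑ i, d i * dotInt (Leech.ofL (BC.L.getD j [])) (BC.fn i) := by
      simp only [dotInt, Finset.sum_apply, Pi.smul_apply, smul_eq_mul, Finset.mul_sum]
      rw [Finset.sum_comm]
      exact Finset.sum_congr rfl fun i _ => Finset.sum_congr rfl fun p _ => by ring
    rw [this]
    rw [Finset.sum_eq_single j (fun b _ hb => by rw [h.dual, if_neg hb, mul_zero]) (by simp),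
      h.dual, if_pos rfl]
  have hbit : ∀ i : Fin 24, ((x : ℕ) ^^^ (y : ℕ)).testBit i = false := by
    intro j
    have hsum : ((∑ i : Fin 24, if ((x : ℕ) ^^^ (y : ℕ)).testBit i then h.vec i else 0 : leechLattice) :
        GolayPt → ℤ) = ∑ i : Fin 24, (if ((x : ℕ) ^^^ (y : ℕ)).testBit i then (1 : ℤ) else 0) • BC.fn i := by
      rw [AddSubgroup.val_finsetSum]
      refine Finset.sum_congr rfl fun i _ => ?_
      split_ifs with hb
      · rw [one_smul]; rfl
      · rw [zero_smul]; rfl
    have hz' : 2 • z = ∑ i : Fin 24, (2 * c i) • BC.fn i := by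
      have := congrArg (fun v : leechLattice => (v : GolayPt → ℤ)) hc
      simp only [AddSubgroup.val_finsetSum, AddSubgroup.coe_zsmul] at this
      rw [this, Finset.smul_sum]
      exact Finset.sum_congr rfl fun i _ => by
        show 2 • c i • BC.fn i = _
        rw [two_nsmul, ← add_smul]; congr 1; ring
    rw [AddSubgroup.coe_zero, sub_zero, hsum, hz'] at hzeq
    have := congrArg (fun v => dotInt (Leech.ofL (BC.L.getD j [])) v) hzeq
    simp only [hdot] at this
    have := mul_right_cancel₀ h.ne this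
    split_ifs at this with hb
    · omega
    · simpa using hb
  refine Fin.ext (Nat.eq_of_testBit_eq fun i => ?_)
  by_cases hi : i < 24
  · have := hbit ⟨i, hi⟩
    simpa [Nat.testBit_xor] using this
  · rw [Nat.testBit_eq_false_of_lt (x.2.trans_le (Nat.pow_le_pow_right (by norm_num) (by omega))),
      Nat.testBit_eq_false_of_lt (y.2.trans_le (Nat.pow_le_pow_right (by norm_num) (by omega)))]

/-- The numbering of the classes. -/
noncomputable def BasisCert.Good.encEquiv : Fin (2 ^ 24) ≃ leechLattice ⧸ Leech.twoSub :=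
  haveI : Finite (leechLattice ⧸ Leech.twoSub) := Nat.finite_of_card_ne_zero
    (by rw [← AddSubgroup.index_eq_card, Leech.index_twoSub]; norm_num)
  Equiv.ofBijective _ ((Nat.bijective_iff_injective_and_card _).mpr
    ⟨enc_injective h, by rw [Nat.card_fin, ← AddSubgroup.index_eq_card, Leech.index_twoSub]⟩)

theorem encEquiv_apply (x : Fin (2 ^ 24)) : h.encEquiv x = h.enc x := rfl

variable {H : Subgroup (Equiv.Perm leechLattice)} (hle : H ≤ Co0)

/-- The additive map of an element. -/
def addMap (g : H) : leechLattice →+ leechLattice :=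
  AddMonoidHom.mk' (fun x => (g : Equiv.Perm leechLattice) x) (hle g.2).1

/-- The map of an element on the classes. -/
noncomputable def quotMap (g : H) : leechLattice ⧸ Leech.twoSub →+ leechLattice ⧸ Leech.twoSub :=
  QuotientAddGroup.map _ _ (addMap hle g) (by
    intro x hx
    obtain ⟨z, hz, hzeq⟩ := Leech.cls_eq.mp ((QuotientAddGroup.eq_zero_iff x).mpr hx :
      Leech.cls x = Leech.cls 0)
    rw [AddSubgroup.coe_zero, sub_zero] at hzeq
    have e : x = (⟨z, hz⟩ : leechLattice) + ⟨z, hz⟩ := Subtype.ext (by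
      rw [hzeq, AddSubgroup.coe_add, two_nsmul])
    rw [AddSubgroup.mem_comap, e, map_add, ← QuotientAddGroup.eq_zero_iff]
    exact two_cls (addMap hle g ⟨z, hz⟩))

theorem quotMap_cls (g : H) (v : leechLattice) :
    quotMap hle g (Leech.cls v) = Leech.cls ((g : Equiv.Perm leechLattice) v) := rfl

theorem quotMap_mul (g g' : H) (c : leechLattice ⧸ Leech.twoSub) :
    quotMap hle (g * g') c = quotMap hle g (quotMap hle g' c) := by
  obtain ⟨v, rfl⟩ := QuotientAddGroup.mk_surjective c
  rfl

theorem quotMap_one (c : leechLattice ⧸ Leech.twoSub) : quotMap hle (1 : H) c = c := by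
  obtain ⟨v, rfl⟩ := QuotientAddGroup.mk_surjective c
  rfl

/-- The permutations of the classes. -/
noncomputable def quotPerm : H →* Equiv.Perm (leechLattice ⧸ Leech.twoSub) where
  toFun g :=
    { toFun := quotMap hle g
      invFun := quotMap hle g⁻¹
      left_inv := fun c => by rw [← quotMap_mul, inv_mul_cancel, quotMap_one]
      right_inv := fun c => by rw [← quotMap_mul, mul_inv_cancel, quotMap_one] }
  map_one' := Equiv.ext fun c => quotMap_one hle c
  map_mul' g g' := Equiv.ext fun c => quotMap_mul hle g g' c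

/-- The representation on binary vectors. -/
noncomputable def binRep : H →* Equiv.Perm (Fin (2 ^ 24)) :=
  (Equiv.permCongrHom h.encEquiv.symm).toMonoidHom.comp (quotPerm hle)

theorem enc_binRep (g : H) (x : Fin (2 ^ 24)) :
    h.enc (binRep h hle g x : ℕ) = quotMap hle g (h.enc x) := by
  rw [← encEquiv_apply h, ← encEquiv_apply h]
  exact Equiv.apply_symm_apply _ _

theorem binRep_lin (g : H) (x y z : Fin (2 ^ 24)) (e : (z : ℕ) = (x : ℕ) ^^^ (y : ℕ)) :
    (binRep h hle g z : ℕ) = (binRep h hle g x : ℕ) ^^^ (binRep h hle g y : ℕ) := by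
  have hlt : (binRep h hle g x : ℕ) ^^^ (binRep h hle g y : ℕ) < 2 ^ 24 :=
    Nat.xor_lt_two_pow (Fin.is_lt _) (Fin.is_lt _)
  have : binRep h hle g z = ⟨_, hlt⟩ := enc_injective h (show h.enc _ = h.enc _ by
    rw [enc_binRep h hle, e, enc_xor h, map_add, enc_xor h, enc_binRep h hle, enc_binRep h hle])
  exact congrArg Fin.val this

theorem binRep_linRep (hinj : Function.Injective (binRep h hle)) : LinRep (binRep h hle) :=
  ⟨hinj, binRep_lin h hle⟩

/-- A matrix code describes a listed lattice automorphism. -/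
noncomputable def genMatB (B : List (List ℤ)) (f : List ℤ → List ℤ) (C : List (List ℤ)) (c : ℕ) : Bool :=
  allBelow 24 fun i =>
    decide (f (B.getD i []) = (List.range 24).map fun a =>
      ((List.range 24).map fun j => (C.getD i []).getD j 0 * (B.getD j []).getD a 0).sum) &&
    allBelow 24 fun j => Bool.xor (decide ((C.getD i []).getD j 0 % 2 = 0)) (bitB (getField 24 c i) j)

theorem colOfMat (a : Leech.LGen)
    (hmem : (a.g : Equiv.Perm leechLattice) ∈ H) {C : List (List ℤ)} {c : ℕ}
    (hc : genMatB BC.B a.f C c = true) (i : Fin 24) :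
    (binRep h hle ⟨_, hmem⟩ ⟨2 ^ (i : ℕ), two_pow_lt i.2⟩ : ℕ) = getField 24 c i := by
  obtain ⟨i, hi⟩ := i
  have hi' := allBelow_eq_true.mp hc i hi
  simp only [Bool.and_eq_true, decide_eq_true_eq] at hi'
  obtain ⟨hf, hpar⟩ := hi'
  have hlt : getField 24 c i < 2 ^ 24 := getField_lt _ _ _
  have key : binRep h hle ⟨_, hmem⟩ ⟨2 ^ i, two_pow_lt hi⟩ = ⟨_, hlt⟩ := by
    refine enc_injective h ?_
    show h.enc _ = h.enc _
    rw [enc_binRep h hle]
    have e1 : h.enc (2 ^ i) = Leech.cls (h.vec ⟨i, hi⟩) := by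
      rw [BasisCert.Good.enc]
      congr 1
      rw [Finset.sum_eq_single ⟨i, hi⟩ (fun j _ hj => by
        rw [Nat.testBit_two_pow]
        simp [Fin.val_ne_iff.mpr hj.symm]) (by simp)]
      simp [Nat.testBit_two_pow]
    show quotMap hle ⟨_, hmem⟩ (h.enc (2 ^ i)) = h.enc (getField 24 c i)
    rw [e1, quotMap_cls]
    have e2 : ((a.g : Equiv.Perm leechLattice) (h.vec ⟨i, hi⟩) : leechLattice) =
        ∑ j : Fin 24, (C.getD i []).getD j 0 • h.vec j := by
      refine Subtype.ext (Leech.toL_injective ?_)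
      show Leech.toL (((a.g • h.vec ⟨i, hi⟩ : leechLattice)) : GolayPt → ℤ) = _
      rw [a.spec, show Leech.toL ((h.vec ⟨i, hi⟩ : leechLattice) : GolayPt → ℤ) = BC.B.getD i [] from
        h.shape ⟨i, hi⟩, hf, AddSubgroup.val_finsetSum]
      unfold Leech.toL
      refine List.map_congr_left fun q hq => ?_
      rw [Finset.sum_apply]
      simp only [AddSubgroup.coe_zsmul, Pi.smul_apply, smul_eq_mul]
      rw [← List.sum_toFinset _ List.nodup_range, List.toFinset_range, ← Fin.sum_univ_eq_sum_range
        (fun j => (C.getD i []).getD j 0 * (BC.B.getD j []).getD q 0)]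
      refine Finset.sum_congr rfl fun j _ => ?_
      rw [← h.shape j, Leech.toL_getD _ _ (List.mem_range.mp hq)]
      rfl
    rw [e2, cls_sum, BasisCert.Good.enc, cls_sum]
    refine Finset.sum_congr rfl fun j _ => ?_
    have hj := allBelow_eq_true.mp hpar j j.2
    rw [bitB_eq] at hj
    rw [cls_zsmul]
    cases hb : (getField 24 c i).testBit (j : ℕ)
    · rw [hb] at hj
      simp only [Bool.bne_false, decide_eq_true_eq] at hj
      rw [if_pos hj]
      rfl
    · rw [hb] at hj
      simp only [Bool.bne_true, Bool.not_eq_true', decide_eq_false_iff_not] at hj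
      rw [if_neg hj]
      rfl
  exact congrArg Fin.val key

theorem hasL_of_genMat (hinj : Function.Injective (binRep h hle)) (a : Leech.LGen)
    (hmem : (a.g : Equiv.Perm leechLattice) ∈ H) {C : List (List ℤ)} {c : ℕ}
    (hc : genMatB BC.B a.f C c = true) : HasL (binRep h hle) ⟨_, hmem⟩ c := by
  refine hasL_of_units (binRep_linRep h hle hinj) fun i hi => ?_
  have hcol : mapply c (2 ^ i) = getField 24 c i := by
    rw [mapply_eq]
    have : ∀ m, mpart c (2 ^ i) m = if i < m then getField 24 c i else 0 := by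
      intro m
      induction m with
      | zero => simp [mpart]
      | succ m ih =>
        simp only [mpart, Nat.testBit_two_pow, ih]
        rcases Nat.lt_trichotomy i m with h1 | h1 | h1
        · simp [h1, h1.ne, Nat.lt_succ_of_lt h1]
        · subst h1; simp
        · simp [h1.ne', not_lt_of_gt h1, show ¬ i < m + 1 by omega]
    rw [this, if_pos hi]
  rw [valFn, dif_pos (two_pow_lt hi), colOfMat h hle a hmem hc ⟨i, hi⟩, hcol]

end Cfsg.Agent.OutLin
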