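import Cfsg.Agent.StemCert.Count
import Cfsg.Agent.LeechModel.Table

/-!
Elements given as linear maps of a binary space of dimension 24, with checks evaluated by the kernel.
-/

set_option autoImplicit false

namespace Cfsg.Agent.OutLin

open Cfsg.Agent.Compute Cfsg.Agent.StemCert

/-- One bit. -/
noncomputable def bitB (x i : ℕ) : Bool := Nat.beq (getField 1 x i) 1

/-- The image of a vector under a matrix given by its 24 columns. -/
noncomputable def mapply (c x : ℕ) : ℕ :=
  forceN x fun y => Nat.rec (motive := fun _ => ℕ) 0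
    (fun i r => cond (bitB y i) (Nat.xor (getField 24 c i) r) r) 24

/-- The partial image. -/
def mpart (c x : ℕ) : ℕ → ℕ
  | 0 => 0
  | i + 1 => if x.testBit i then getField 24 c i ^^^ mpart c x i else mpart c x i

theorem bitB_eq (x i : ℕ) : bitB x i = x.testBit i := by
  rw [Bool.eq_iff_iff, bitB, Nat.beq_eq, getField_eq, Nat.testBit_eq_decide_div_mod_eq]
  simp

theorem mapply_eq (c x : ℕ) : mapply c x = mpart c x 24 := by
  rw [mapply, forceN_eq]
  have : ∀ i, Nat.rec (motive := fun _ => ℕ) 0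
      (fun i r => cond (bitB x i) (Nat.xor (getField 24 c i) r) r) i = mpart c x i := by
    intro i
    induction i with
    | zero => rfl
    | succ i ih =>
      show cond (bitB x i) (Nat.xor (getField 24 c i) _) _ = _
      rw [ih, bitB_eq, mpart]
      cases x.testBit i <;> rfl
  exact this 24

theorem mpart_xor (c x y : ℕ) : ∀ i, mpart c (x ^^^ y) i = mpart c x i ^^^ mpart c y i
  | 0 => by simp [mpart]
  | i + 1 => by
    simp only [mpart, Nat.testBit_xor, mpart_xor c x y i]
    cases x.testBit i <;> cases y.testBit i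
    · simp
    · simpa using Nat.xor_left_comm (getField 24 c i) (mpart c x i) (mpart c y i)
    · simp [Nat.xor_assoc]
    · simp only [bne_self_eq_false, Bool.false_eq_true, ↓reduceIte]
      rw [Nat.xor_assoc (getField 24 c i), Nat.xor_left_comm (mpart c x i) (getField 24 c i),
        ← Nat.xor_assoc (getField 24 c i) (getField 24 c i), Nat.xor_self, Nat.zero_xor]

theorem mapply_xor (c x y : ℕ) : mapply c (x ^^^ y) = mapply c x ^^^ mapply c y := by
  simp only [mapply_eq, mpart_xor]

/-- An additive function on vectors is determined by the values at the unit vectors. -/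
theorem eq_of_units {f h : ℕ → ℕ} (hf : ∀ x y, x < 2 ^ 24 → y < 2 ^ 24 → f (x ^^^ y) = f x ^^^ f y)
    (hh : ∀ x y, x < 2 ^ 24 → y < 2 ^ 24 → h (x ^^^ y) = h x ^^^ h y)
    (hu : ∀ i < 24, f (2 ^ i) = h (2 ^ i)) : ∀ x < 2 ^ 24, f x = h x := by
  have h0 : ∀ g : ℕ → ℕ, (∀ x y, x < 2 ^ 24 → y < 2 ^ 24 → g (x ^^^ y) = g x ^^^ g y) → g 0 = 0 := by
    intro g hg
    have := hg 0 0 (by norm_num) (by norm_num)
    rwa [Nat.xor_self, Nat.xor_self] at this
  suffices H : ∀ i ≤ 24, ∀ x < 2 ^ i, f x = h x from H 24 le_rfl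
  intro i
  induction i with
  | zero => intro _ x hx; obtain rfl : x = 0 := by simpa using hx
            rw [h0 f hf, h0 h hh]
  | succ i ih =>
    intro hi x hx
    by_cases hxi : x < 2 ^ i
    · exact ih (by omega) x hxi
    have hbit : x.testBit i = true := by
      by_contra hc
      refine hxi (Nat.lt_pow_two_of_testBit _ fun j hj => ?_)
      rcases Nat.eq_or_lt_of_le hj with rfl | hj'
      · simpa using hc
      · exact Nat.testBit_eq_false_of_lt (hx.trans_le (Nat.pow_le_pow_right (by norm_num) hj'))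
    have hlow : x ^^^ 2 ^ i < 2 ^ i := by
      refine Nat.lt_pow_two_of_testBit _ fun j hj => ?_
      rw [Nat.testBit_xor, Nat.testBit_two_pow]
      rcases Nat.eq_or_lt_of_le hj with rfl | hj'
      · simp [hbit]
      · simp [Nat.testBit_eq_false_of_lt (hx.trans_le (Nat.pow_le_pow_right (by norm_num) hj')), hj'.ne]
    have h24 : 2 ^ i < 2 ^ 24 := Nat.pow_lt_pow_right (by norm_num) (by omega)
    have hx' : x = (x ^^^ 2 ^ i) ^^^ 2 ^ i := by rw [Nat.xor_assoc, Nat.xor_self, Nat.xor_zero]
    rw [hx', hf _ _ (hlow.trans h24) h24, hh _ _ (hlow.trans h24) h24, ih (by omega) _ hlow,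
      hu i (by omega)]

/-- Apply a word of matrices. -/
noncomputable def appL (cs : List ℕ) (wd : List ℕ) (x : ℕ) : ℕ :=
  List.rec (motive := fun _ => ℕ) x (fun s _ y => mapply (cs.getD s 0) y) wd

/-- Agreement of two words on the unit vectors. -/
noncomputable def eqL (cs : List ℕ) (a b : List ℕ) : Bool :=
  allBelow 24 fun i => forceN (Nat.shiftLeft 1 i) fun e => Nat.beq (appL cs a e) (appL cs b e)

variable {G : Type*} [Group G] {k : ℕ}

/-- A faithful linear representation. -/
structure LinRep (ι : G →* Equiv.Perm (Fin (2 ^ 24))) : Prop where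
  inj : Function.Injective ι
  lin : ∀ (g : G) (x y z : Fin (2 ^ 24)), (z : ℕ) = (x : ℕ) ^^^ (y : ℕ) →
    (ι g z : ℕ) = (ι g x : ℕ) ^^^ (ι g y : ℕ)

/-- An element with a code. -/
def HasL (ι : G →* Equiv.Perm (Fin (2 ^ 24))) (g : G) (c : ℕ) : Prop :=
  ∀ x : Fin (2 ^ 24), (ι g x : ℕ) = mapply c x

/-- The codes describe the elements. -/
def CodedL (k : ℕ) (ι : G →* Equiv.Perm (Fin (2 ^ 24))) (g : ℕ → G) (cs : List ℕ) : Prop :=
  ∀ s < k, HasL ι (g s) (cs.getD s 0)

variable {ι : G →* Equiv.Perm (Fin (2 ^ 24))} {gen : ℕ → G} {cs : List ℕ}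

/-- The value as a function on numbers. -/
noncomputable def valFn (ι : G →* Equiv.Perm (Fin (2 ^ 24))) (g : G) (x : ℕ) : ℕ :=
  if h : x < 2 ^ 24 then (ι g ⟨x, h⟩ : ℕ) else 0

theorem valFn_xor (hr : LinRep ι) (g : G) (x y : ℕ) (hx : x < 2 ^ 24) (hy : y < 2 ^ 24) :
    valFn ι g (x ^^^ y) = valFn ι g x ^^^ valFn ι g y := by
  rw [valFn, valFn, valFn, dif_pos (Nat.xor_lt_two_pow hx hy), dif_pos hx, dif_pos hy]
  exact hr.lin g ⟨x, hx⟩ ⟨y, hy⟩ _ rfl

theorem hasL_of_units (hr : LinRep ι) {g : G} {c : ℕ}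
    (h : ∀ i < 24, valFn ι g (2 ^ i) = mapply c (2 ^ i)) : HasL ι g c := by
  intro x
  have := eq_of_units (valFn_xor hr g) (fun a b _ _ => mapply_xor c a b) h x x.2
  rwa [valFn, dif_pos x.2] at this

theorem appL_spec (hc : CodedL k ι gen cs) :
    ∀ (wd : List ℕ), (∀ s ∈ wd, s < k) → ∀ x : Fin (2 ^ 24),
      (ι (evalW gen wd) x : ℕ) = appL cs wd x
  | [], _, x => by simp [evalW, appL]
  | s :: wd, h, x => by
    rw [evalW_cons, map_mul, Equiv.Perm.mul_apply, hc s (h s (by simp)),
      appL_spec hc wd (fun t ht => h t (List.mem_cons_of_mem _ ht)) x]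
    rfl

theorem valFn_word (hc : CodedL k ι gen cs) {wd : List ℕ} (hw : ∀ s ∈ wd, s < k) {x : ℕ}
    (hx : x < 2 ^ 24) : valFn ι (evalW gen wd) x = appL cs wd x := by
  rw [valFn, dif_pos hx]
  exact appL_spec hc wd hw ⟨x, hx⟩

theorem eq_of_hasL (hr : LinRep ι) {g h : G} {c : ℕ} (hg : HasL ι g c) (hh : HasL ι h c) : g = h :=
  hr.inj (Equiv.ext fun x => Fin.ext ((hg x).trans (hh x).symm))

theorem eq_of_valFn (hr : LinRep ι) {g h : G}
    (e : ∀ i < 24, valFn ι g (2 ^ i) = valFn ι h (2 ^ i)) : g = h := by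
  refine hr.inj (Equiv.ext fun x => Fin.ext ?_)
  have := eq_of_units (valFn_xor hr g) (valFn_xor hr h) e x x.2
  rwa [valFn, dif_pos x.2, valFn, dif_pos x.2] at this

theorem two_pow_lt {i : ℕ} (hi : i < 24) : 2 ^ i < 2 ^ 24 := Nat.pow_lt_pow_right (by norm_num) hi

theorem eq_of_eqL (hr : LinRep ι) (hc : CodedL k ι gen cs) {a b : List ℕ} (ha : ∀ s ∈ a, s < k)
    (hb : ∀ s ∈ b, s < k) (h : eqL cs a b = true) : evalW gen a = evalW gen b := by
  refine eq_of_valFn hr fun i hi => ?_
  rw [valFn_word hc ha (two_pow_lt hi), valFn_word hc hb (two_pow_lt hi)]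
  have := allBelow_eq_true.mp h i hi
  rw [forceN_eq, Nat.beq_eq] at this
  rwa [show Nat.shiftLeft 1 i = 2 ^ i from Nat.one_shiftLeft i] at this

/-- All letters of a word are below `k`. -/
noncomputable def lettB (k : ℕ) (wd : List ℕ) : Bool := allB (fun s => Nat.blt s k) wd

theorem lettB_spec {k : ℕ} {wd : List ℕ} (h : lettB k wd = true) : ∀ s ∈ wd, s < k :=
  fun s hs => Nat.blt_eq.mp (allB_spec h s hs)

/-- Two words are equal as elements. -/
noncomputable def sameB (k : ℕ) (cs : List ℕ) (a b : List ℕ) : Bool :=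
  lettB k a && lettB k b && eqL cs a b

theorem sameB_spec (hr : LinRep ι) (hc : CodedL k ι gen cs) {a b : List ℕ}
    (h : sameB k cs a b = true) : evalW gen a = evalW gen b := by
  simp only [sameB, Bool.and_eq_true] at h
  exact eq_of_eqL hr hc (lettB_spec h.1.1) (lettB_spec h.1.2) h.2

/-- Every code from the third on is that of a word in the earlier ones. -/
noncomputable def slpB (k : ℕ) (cs : List ℕ) (ws : List (List ℕ)) : Bool :=
  allBelow k fun s => Nat.blt s 2 || (lettB s (ws.getD s []) &&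
    forceN (cs.getD s 0) fun c =>
      allBelow 24 fun i => forceN (Nat.shiftLeft 1 i) fun e =>
        Nat.beq (appL cs (ws.getD s []) e) (mapply c e))

theorem exists_slp (hr : LinRep ι) {pair : ℕ → G} {ws : List (List ℕ)}
    (hp : CodedL 2 ι pair cs) (h : slpB k cs ws = true) :
    ∃ g : ℕ → G, CodedL k ι g cs ∧ g 0 = pair 0 ∧ g 1 = pair 1 ∧
      ∀ s, g s ∈ Submonoid.closure ({pair 0, pair 1} : Set G) := by
  classical
  suffices H : ∀ K ≤ k, ∃ g : ℕ → G, CodedL K ι g cs ∧ g 0 = pair 0 ∧
      g 1 = pair 1 ∧ ∀ s, g s ∈ Submonoid.closure ({pair 0, pair 1} : Set G) from H k le_rfl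
  intro K
  induction K with
  | zero =>
    refine fun _ => ⟨fun s => if s = 0 then pair 0 else pair 1, fun s hs => absurd hs (Nat.not_lt_zero s),
      rfl, rfl, fun s => ?_⟩
    simp only
    split_ifs <;> exact Submonoid.subset_closure (by simp)
  | succ K ih =>
    intro hK
    obtain ⟨g, hc, g0, g1, hm⟩ := ih (by omega)
    by_cases hK2 : K < 2
    · refine ⟨g, fun s hs => ?_, g0, g1, hm⟩
      rcases Nat.lt_succ_iff_lt_or_eq.mp hs with hs' | rfl
      · exact hc s hs'
      · interval_cases s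
        · rw [g0]; exact hp 0 (by norm_num)
        · rw [g1]; exact hp 1 (by norm_num)
    · have hK' := allBelow_eq_true.mp h K (by omega)
      simp only [Bool.or_eq_true, Nat.blt_eq, Bool.and_eq_true, forceN_eq] at hK'
      obtain hh | ⟨hlt, heq⟩ := hK'
      · exact absurd hh hK2
      have hlt' := lettB_spec hlt
      refine ⟨Function.update g K (evalW g (ws.getD K [])), fun s hs => ?_, ?_, ?_, fun s => ?_⟩
      · by_cases hsK : s = K
        · subst hsK
          rw [Function.update_self]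
          refine hasL_of_units hr fun i hi => ?_
          rw [valFn_word hc hlt' (two_pow_lt hi)]
          have := Nat.eq_of_beq_eq_true (allBelow_eq_true.mp heq i hi)
          rwa [show Nat.shiftLeft 1 i = 2 ^ i from Nat.one_shiftLeft i] at this
        · rw [Function.update_of_ne hsK]
          exact hc s (by omega)
      · rw [Function.update_of_ne (by omega : (0 : ℕ) ≠ K)]; exact g0
      · rw [Function.update_of_ne (by omega : (1 : ℕ) ≠ K)]; exact g1
      · by_cases hsK : s = K
        · subst hsK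
          rw [Function.update_self]
          refine list_prod_mem fun y hy => ?_
          obtain ⟨t, -, rfl⟩ := List.mem_map.mp hy
          exact hm t
        · rw [Function.update_of_ne hsK]; exact hm s

end Cfsg.Agent.OutLin
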