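import Cfsg.Agent.OutLin.Basic

/-!
Transversals of stabilisers, checked in linear time in their size.
-/

set_option autoImplicit false

namespace Cfsg.Agent.OutLin

open Cfsg.Agent.Compute Cfsg.Agent.StemCert

/-- The generators of the levels fix a vector. -/
noncomputable def fixL (cs : List ℕ) (Ls : List Lv) (b : ℕ) : Bool :=
  allB (fun L => allB (fun s => Nat.beq (mapply (cs.getD s 0) b) b) L.gens) Ls

/-- The images of a vector under the transversal are ordered, apart from itself. -/
noncomputable def orderB (cs : List ℕ) (L : Lv) (b : ℕ) : Bool :=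
  allBelow L.size fun j => forceN (appL cs (L.word j) b) fun v =>
    Nat.beq j 0 || (!(Nat.beq v b) &&
      (Nat.beq (Nat.succ j) L.size || Nat.blt v (appL cs (L.word (Nat.succ j)) b)))

/-- The transversals of all levels are ordered. -/
noncomputable def chainB (cs : List ℕ) : List Lv → List ℕ → Bool :=
  fun Ls => List.rec (motive := fun _ => List ℕ → Bool) (fun _ => true)
    (fun L rest rec bs => List.rec (motive := fun _ => Bool) false
      (fun b bs' _ => Nat.blt b (Nat.shiftLeft 1 24) && fixL cs rest b && orderB cs L b &&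
        rec bs') bs) Ls

theorem chainB_cons {cs : List ℕ} {L : Lv} {Ls : List Lv} {b : ℕ} {bs : List ℕ}
    (h : chainB cs (L :: Ls) (b :: bs) = true) :
    b < 2 ^ 24 ∧ fixL cs Ls b = true ∧ orderB cs L b = true ∧ chainB cs Ls bs = true := by
  have h' : (Nat.blt b (Nat.shiftLeft 1 24) && fixL cs Ls b && orderB cs L b &&
      chainB cs Ls bs) = true := h
  simp only [Bool.and_eq_true, Nat.blt_eq] at h'
  rw [show Nat.shiftLeft 1 24 = 2 ^ 24 from Nat.one_shiftLeft 24] at h'
  exact ⟨h'.1.1.1, h'.1.1.2, h'.1.2, h'.2⟩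

theorem orderB_inj {cs : List ℕ} {L : Lv} {b : ℕ} (hw0 : L.word 0 = []) (h : orderB cs L b = true)
    {i j : ℕ} (hi : i < L.size) (hj : j < L.size)
    (e : appL cs (L.word i) b = appL cs (L.word j) b) : i = j := by
  have hs : ∀ m, 0 < m → m < L.size → appL cs (L.word m) b ≠ b ∧
      (m + 1 < L.size → appL cs (L.word m) b < appL cs (L.word (m + 1)) b) := by
    intro m hm0 hm
    have := allBelow_eq_true.mp h m hm
    simp only [forceN_eq, Bool.or_eq_true, Bool.and_eq_true, Nat.beq_eq, Bool.not_eq_true',
      Nat.blt_eq] at this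
    rcases this with h0 | ⟨hne, hlt⟩
    · omega
    · refine ⟨fun e' => ?_, fun hm1 => ?_⟩
      · rw [e'] at hne; simp at hne
      · rcases hlt with h1 | h1
        · omega
        · exact h1
  have hzero : appL cs (L.word 0) b = b := by rw [hw0]; rfl
  have hmono : ∀ a c, 0 < a → a < c → c < L.size → appL cs (L.word a) b < appL cs (L.word c) b := by
    intro a c ha hac
    induction c with
    | zero => omega
    | succ c ih =>
      intro hc
      have := (hs c (by omega) (by omega)).2 hc
      rcases Nat.lt_succ_iff_lt_or_eq.mp hac with h1 | h1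
      · exact (ih h1 (by omega)).trans this
      · exact h1 ▸ this
  rcases Nat.lt_trichotomy i j with hij | hij | hij
  · rcases Nat.eq_zero_or_pos i with rfl | hp
    · exact absurd (e.symm.trans hzero) (hs j hij hj).1
    · exact absurd e (hmono i j hp hij hj).ne
  · exact hij
  · rcases Nat.eq_zero_or_pos j with rfl | hp
    · exact absurd (e.trans hzero) (hs i hij hi).1
    · exact absurd e (hmono j i hp hij hi).ne'

variable {G : Type*} [Group G] {k : ℕ} {ι : G →* Equiv.Perm (Fin (2 ^ 24))} {gen : ℕ → G}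
  {cs : List ℕ}

theorem nf_fixL (hc : CodedL k ι gen cs) {b : Fin (2 ^ 24)} :
    ∀ {Ls : List Lv} {x : List ℕ}, wfB Ls = true → gensBelow k Ls = true →
      fixL cs Ls b = true → Valid Ls x → ι (nf gen Lv.word Ls x) b = b
  | [], _, _, _, _, _ => by simp [nf]
  | L :: Ls, x, hw, hg, hf, hx => by
    obtain ⟨j, r, rfl, hj, hr⟩ := hx
    obtain ⟨-, -, hword, -, hw'⟩ := wfB_cons hw
    have hg' : (allB (fun s => Nat.blt s k) L.gens && gensBelow k Ls) = true := hg
    have hf' : (allB (fun s => Nat.beq (mapply (cs.getD s 0) b) b) L.gens &&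
      fixL cs Ls b) = true := hf
    rw [Bool.and_eq_true] at hg' hf'
    simp only [nf, List.headD_cons, List.tail_cons]
    rw [map_mul, Equiv.Perm.mul_apply, nf_fixL hc hw' hg'.2 hf'.2 hr]
    have key : ∀ wd : List ℕ, (∀ s ∈ wd, s ∈ L.gens) → ι (evalW gen wd) b = b := by
      intro wd
      induction wd with
      | nil => intro _; simp [evalW]
      | cons s wd ih =>
        intro h
        rw [evalW_cons, map_mul, Equiv.Perm.mul_apply,
          ih fun t ht => h t (List.mem_cons_of_mem _ ht)]
        refine Fin.ext ?_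
        rw [hc s (gens_lt hg (List.mem_cons_self ..) (h s (List.mem_cons_self ..)))]
        exact Nat.eq_of_beq_eq_true (allB_spec hf'.1 s (h s (List.mem_cons_self ..)))
    exact key _ fun s hs => hword j hj s hs

theorem nfL_injective (hc : CodedL k ι gen cs) :
    ∀ {Ls : List Lv} {bs : List ℕ}, wfB Ls = true → gensBelow k Ls = true →
      chainB cs Ls bs = true →
      ∀ x y, Valid Ls x → Valid Ls y → nf gen Lv.word Ls x = nf gen Lv.word Ls y → x = y
  | [], _, _, _, _ => fun x y hx hy _ => hx.trans hy.symm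
  | _ :: _, [], _, _, h => by simp [chainB] at h
  | L :: Ls, b :: bs, hw, hg, h => by
    obtain ⟨-, hw0, hword, -, hw'⟩ := wfB_cons hw
    have hg' : (allB (fun s => Nat.blt s k) L.gens && gensBelow k Ls) = true := hg
    rw [Bool.and_eq_true] at hg'
    obtain ⟨hbn, hfix, hord, hrest⟩ := chainB_cons h
    rintro x y ⟨j, r, rfl, hj, hr⟩ ⟨j', r', rfl, hj', hr'⟩ he
    simp only [nf, List.headD_cons, List.tail_cons] at he
    have hlet : ∀ i < L.size, ∀ t ∈ L.word i, t < k := fun i hi t ht =>
      gens_lt hg (by simp) (hword i hi t ht)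
    have hpt : appL cs (L.word j) b = appL cs (L.word j') b := by
      have := congrArg (fun σ => (ι σ ⟨b, hbn⟩ : ℕ)) he
      simpa [nf_fixL hc (b := ⟨b, hbn⟩) hw' hg'.2 hfix hr,
        nf_fixL hc (b := ⟨b, hbn⟩) hw' hg'.2 hfix hr', appL_spec hc _ (hlet j hj),
        appL_spec hc _ (hlet j' hj')] using this
    obtain rfl := orderB_inj hw0 hord hj hj' hpt
    rw [nfL_injective hc hw' hg'.2 hrest r r' hr hr' (mul_left_cancel he)]

/-- All checks on a chain. -/
noncomputable def chainOK (k : ℕ) (cs : List ℕ) (Ls : List Lv) (bs : List ℕ) : Bool :=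
  wfB Ls && gensBelow k Ls && chainB cs Ls bs

theorem chainOK_spec {Ls : List Lv} {bs : List ℕ} (h : chainOK k cs Ls bs = true) :
    wfB Ls = true ∧ gensBelow k Ls = true ∧ chainB cs Ls bs = true := by
  simp only [chainOK, Bool.and_eq_true] at h
  exact ⟨h.1.1, h.1.2, h.2⟩

/-- A lower bound for a subgroup containing the generators of a chain. -/
theorem le_card_of_chain [Finite G] (hc : CodedL k ι gen cs) {Ls : List Lv} {bs : List ℕ}
    (h : chainOK k cs Ls bs = true) (H : Subgroup G)
    (hH : ∀ L ∈ Ls, ∀ s ∈ L.gens, gen s ∈ H) : numForms Ls ≤ Nat.card H := by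
  obtain ⟨hw, hg, hd⟩ := chainOK_spec h
  have hmem : ∀ {Ms : List Lv} {x : List ℕ}, wfB Ms = true → (∀ L ∈ Ms, L ∈ Ls) → Valid Ms x →
      nf gen Lv.word Ms x ∈ H := by
    intro Ms
    induction Ms with
    | nil => intro x _ _ _; exact one_mem _
    | cons L Ms ih =>
      intro x hw hsub hx
      obtain ⟨j, r, rfl, hj, hr⟩ := hx
      obtain ⟨-, -, hword, -, hw'⟩ := wfB_cons hw
      simp only [nf, List.headD_cons, List.tail_cons]
      refine mul_mem (list_prod_mem fun y hy => ?_)
        (ih hw' (fun M hM => hsub M (List.mem_cons_of_mem _ hM)) hr)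
      obtain ⟨s, hs, rfl⟩ := List.mem_map.mp hy
      exact hH L (hsub L (by simp)) s (hword j hj s hs)
  let f : forms Ls → H := fun x =>
    ⟨nf gen Lv.word Ls x.1, hmem hw (fun _ h => h) (valid_of_mem_forms x.2)⟩
  have hf : Function.Injective f := fun x y e => Subtype.ext (nfL_injective hc hw hg hd _ _
    (valid_of_mem_forms x.2) (valid_of_mem_forms y.2) (congrArg Subtype.val e))
  have := Nat.card_le_card_of_injective f hf
  rwa [show Nat.card (forms Ls) = numForms Ls by simp [card_forms]] at this

/-- The normal forms exhaust a group of their number. -/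
theorem nf_surjective [Finite G] (hc : CodedL k ι gen cs) {Ls : List Lv} {bs : List ℕ}
    (h : chainOK k cs Ls bs = true) (hcard : numForms Ls = Nat.card G) (g : G) :
    ∃ y, Valid Ls y ∧ nf gen Lv.word Ls y = g := by
  classical
  obtain ⟨hw, hg, hd⟩ := chainOK_spec h
  let f : forms Ls → G := fun x => nf gen Lv.word Ls x.1
  have hb : Function.Bijective f := (Nat.bijective_iff_injective_and_card f).mpr
    ⟨fun x y e => Subtype.ext (nfL_injective hc hw hg hd _ _ (valid_of_mem_forms x.2)
      (valid_of_mem_forms y.2) e), by simp [card_forms, hcard]⟩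
  obtain ⟨⟨y, hy⟩, e⟩ := hb.2 g
  exact ⟨y, valid_of_mem_forms hy, e⟩

/-- A code is not the value of a normal form extending a prefix. -/
noncomputable def siftFail (cs : List ℕ) (c : ℕ) : List Lv → List ℕ → List ℕ → List ℕ → Bool :=
  fun Ls => List.rec (motive := fun _ => List ℕ → List ℕ → List ℕ → Bool)
    (fun _ _ pre => !(allBelow 24 fun i => forceN (Nat.shiftLeft 1 i) fun e =>
      Nat.beq (appL cs pre e) (mapply c e)))
    (fun L _ rec bs js pre => List.rec (motive := fun _ => Bool) false
      (fun b bs' _ => forceN (mapply c b) fun cb => List.rec (motive := fun _ => Bool)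
        (allBelow L.size fun j => !Nat.beq (appL cs (pre ++ L.word j) b) cb)
        (fun j0 js' _ => Nat.blt j0 L.size &&
          Nat.beq (appL cs (pre ++ L.word j0) b) cb &&
          rec bs' js' (pre ++ L.word j0)) js) bs) Ls

theorem siftFail_ne (hc : CodedL k ι gen cs) {z : G} {c : ℕ} (hz : HasL ι z c) :
    ∀ {Ls : List Lv} {bs js pre : List ℕ}, wfB Ls = true → gensBelow k Ls = true →
      chainB cs Ls bs = true → (∀ s ∈ pre, s < k) → siftFail cs c Ls bs js pre = true →
      ∀ y, Valid Ls y → evalW gen pre * nf gen Lv.word Ls y ≠ z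
  | [], _, _, pre, _, _, _, hpre, h => by
    rintro y hy he
    have hall : allBelow 24 (fun i => forceN (Nat.shiftLeft 1 i) fun e =>
        Nat.beq (appL cs pre e) (mapply c e)) = true := by
      refine allBelow_eq_true.mpr fun i hi => ?_
      rw [forceN_eq, Nat.beq_eq, show Nat.shiftLeft 1 i = 2 ^ i from Nat.one_shiftLeft i,
        ← hz ⟨2 ^ i, two_pow_lt hi⟩, ← appL_spec hc pre hpre ⟨2 ^ i, two_pow_lt hi⟩, ← he, nf, mul_one]
    have h' : (!(allBelow 24 fun i => forceN (Nat.shiftLeft 1 i) fun e =>
        Nat.beq (appL cs pre e) (mapply c e))) = true := h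
    rw [hall] at h'
    exact Bool.noConfusion h'
  | _ :: _, [], _, _, _, _, hd, _, _ => by simp [chainB] at hd
  | L :: Ls, b :: bs, js, pre, hw, hg, hd, hpre, h => by
    obtain ⟨-, hw0, hword, -, hw'⟩ := wfB_cons hw
    have hg' : (allB (fun s => Nat.blt s k) L.gens && gensBelow k Ls) = true := hg
    rw [Bool.and_eq_true] at hg'
    obtain ⟨hbn, hfix, hord, hd'⟩ := chainB_cons hd
    rintro y ⟨j, r, rfl, hj, hr⟩ he
    have hlet : ∀ i < L.size, ∀ t ∈ pre ++ L.word i, t < k := fun i hi t ht => by
      rcases List.mem_append.mp ht with h1 | h1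
      exacts [hpre t h1, gens_lt hg (by simp) (hword i hi t h1)]
    simp only [nf, List.headD_cons, List.tail_cons] at he
    rw [← mul_assoc, ← evalW_append] at he
    have hb' : appL cs (pre ++ L.word j) b = mapply c b := by
      have := congrArg (fun g => (ι g ⟨b, hbn⟩ : ℕ)) he
      rw [map_mul, Equiv.Perm.mul_apply, nf_fixL hc (b := ⟨b, hbn⟩) hw' hg'.2 hfix hr,
        appL_spec hc _ (hlet j hj), hz] at this
      exact this
    cases js with
    | nil =>
      have h' : (forceN (mapply c b) fun cb => allBelow L.size fun j =>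
          !Nat.beq (appL cs (pre ++ L.word j) b) cb) = true := h
      rw [forceN_eq] at h'
      have := allBelow_eq_true.mp h' j hj
      rw [hb'] at this
      simp at this
    | cons j0 js =>
      have h' : (forceN (mapply c b) fun cb => Nat.blt j0 L.size &&
          Nat.beq (appL cs (pre ++ L.word j0) b) cb &&
          siftFail cs c Ls bs js (pre ++ L.word j0)) = true := h
      simp only [forceN_eq, Bool.and_eq_true, Nat.blt_eq, Nat.beq_eq] at h'
      obtain ⟨⟨hj0, e0⟩, hrec⟩ := h'
      obtain rfl : j = j0 := by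
        refine orderB_inj hw0 hord hj hj0 ?_
        have l1 := appL_spec hc (pre ++ L.word j) (hlet j hj) ⟨b, hbn⟩
        have l2 := appL_spec hc (pre ++ L.word j0) (hlet j0 hj0) ⟨b, hbn⟩
        rw [evalW_append, map_mul, Equiv.Perm.mul_apply] at l1 l2
        have e2 := (ι (evalW gen pre)).injective (Fin.ext (l1.trans ((hb'.trans e0.symm).trans l2.symm)))
        rw [← appL_spec hc _ (fun t ht => gens_lt hg (by simp) (hword j hj t ht)) ⟨b, hbn⟩,
          ← appL_spec hc _ (fun t ht => gens_lt hg (by simp) (hword j0 hj0 t ht)) ⟨b, hbn⟩, e2]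
      exact siftFail_ne hc hz hw' hg'.2 hd' (hlet j hj) hrec r hr he

end Cfsg.Agent.OutLin
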