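import Cfsg.Agent.OutLin.Chain

/-!
A Sylow two-subgroup by a power-conjugate list, and its centre from two orbits.
-/

set_option autoImplicit false

namespace Cfsg.Agent.OutLin

open Cfsg.Agent.Compute Cfsg.Agent.StemCert
open Cfsg.Agent.LeechModel (allB_of_forall)

/-- Letters of a list of positions. -/
noncomputable def pick (ps : List ℕ) (w : List ℕ) : List ℕ := w.map fun i => ps.getD i 0

/-- Squares and conjugates by earlier members are words in earlier members. -/
noncomputable def pcB (k : ℕ) (cs ps : List ℕ) (sq : List (List ℕ)) (cj : List (List (List ℕ))) : Bool :=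
  allBelow ps.length fun i => forceN (ps.getD i 0) fun s =>
    lettB i (sq.getD i []) && sameB k cs [s, s] (pick ps (sq.getD i [])) &&
      allBelow i fun j => lettB i ((cj.getD i []).getD j []) &&
        sameB k cs [s, ps.getD j 0] (pick ps ((cj.getD i []).getD j []) ++ [s])

variable {G : Type*} [Group G] {k : ℕ} {ι : G →* Equiv.Perm (Fin (2 ^ 24))} {gen : ℕ → G}
  {cs ps : List ℕ}

/-- The subgroup of the first members. -/
def pcSub (gen : ℕ → G) (ps : List ℕ) (i : ℕ) : Subgroup G :=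
  Subgroup.closure ((fun j => gen (ps.getD j 0)) '' {j | j < i})

theorem pick_mem {w : List ℕ} {i : ℕ} (h : ∀ j ∈ w, j < i) :
    evalW gen (pick ps w) ∈ pcSub gen ps i := by
  refine list_prod_mem fun y hy => ?_
  obtain ⟨a, ha, rfl⟩ := List.mem_map.mp hy
  obtain ⟨j, hj, rfl⟩ := List.mem_map.mp ha
  exact Subgroup.subset_closure ⟨j, h j hj, rfl⟩

/-- The order of the subgroup is at most two to the number of members. -/
theorem card_pcSub_le [Finite G] (hr : LinRep ι) (hc : CodedL k ι gen cs) {sq : List (List ℕ)}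
    {cj : List (List (List ℕ))} (h : pcB k cs ps sq cj = true) :
    ∀ i ≤ ps.length, Nat.card (pcSub gen ps i) ≤ 2 ^ i := by
  intro i
  induction i with
  | zero =>
    intro _
    have : pcSub gen ps 0 = ⊥ := Subgroup.closure_eq_bot_iff.mpr (by simp)
    rw [this, Subgroup.card_bot]
    norm_num
  | succ i ih =>
    intro hi
    have hchk := allBelow_eq_true.mp h i (by omega)
    simp only [forceN_eq, Bool.and_eq_true] at hchk
    set H := pcSub gen ps i
    set s := gen (ps.getD i 0)
    have hss : s * s ∈ H := by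
      have e := sameB_spec hr hc hchk.1.2
      rw [show s * s = evalW gen [ps.getD i 0, ps.getD i 0] by simp [evalW, s], e]
      exact pick_mem (lettB_spec hchk.1.1)
    have hconj : ∀ x ∈ H, s * x * s⁻¹ ∈ H := by
      intro x hx
      refine Subgroup.closure_induction (p := fun x _ => s * x * s⁻¹ ∈ H) ?_ ?_ ?_ ?_ hx
      · rintro _ ⟨j, hj, rfl⟩
        have hj' := allBelow_eq_true.mp hchk.2 j hj
        simp only [Bool.and_eq_true] at hj'
        have e := sameB_spec hr hc hj'.2
        rw [evalW_append, show evalW gen [ps.getD i 0, ps.getD j 0] = s * gen (ps.getD j 0) by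
          simp [evalW, s], show evalW gen [ps.getD i 0] = s by simp [evalW, s]] at e
        rw [e, mul_inv_cancel_right]
        exact pick_mem (lettB_spec hj'.1)
      · simp [one_mem]
      · intro a b _ _ ha hb
        rw [show s * (a * b) * s⁻¹ = s * a * s⁻¹ * (s * b * s⁻¹) by group]
        exact mul_mem ha hb
      · intro a _ ha
        rw [show s * a⁻¹ * s⁻¹ = (s * a * s⁻¹)⁻¹ by group]
        exact inv_mem ha
    let p : G → Prop := fun z => ∃ b : Bool, ∃ a ∈ H, z = a * (if b then s else 1)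
    have hs : ∀ z, p z → p (s * z) := by
      rintro z ⟨b, a, ha, rfl⟩
      cases b
      · exact ⟨true, s * a * s⁻¹, hconj a ha, by simp⟩
      · exact ⟨false, s * a * s⁻¹ * (s * s), mul_mem (hconj a ha) hss, by simp; group⟩
    have hH : ∀ c ∈ H, ∀ z, p z → p (c * z) := by
      rintro c hc z ⟨b, a, ha, rfl⟩
      exact ⟨b, c * a, mul_mem hc ha, by rw [mul_assoc]⟩
    have hsub : ∀ z ∈ pcSub gen ps (i + 1), p z := by
      intro z hz
      refine Subgroup.closure_induction_left (p := fun z _ => p z) ⟨false, 1, one_mem _, by simp⟩ ?_ ?_ hz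
      · rintro _ ⟨j, hj, rfl⟩ y _ hy
        rcases Nat.lt_succ_iff_lt_or_eq.mp hj with hj | rfl
        · exact hH _ (Subgroup.subset_closure ⟨j, hj, rfl⟩) y hy
        · exact hs y hy
      · rintro _ ⟨j, hj, rfl⟩ y _ hy
        rcases Nat.lt_succ_iff_lt_or_eq.mp hj with hj | rfl
        · exact hH _ (inv_mem (Subgroup.subset_closure ⟨j, hj, rfl⟩)) y hy
        · change p (s⁻¹ * y)
          rw [show s⁻¹ * y = (s * s)⁻¹ * (s * y) by group]
          exact hH _ (inv_mem hss) _ (hs y hy)
    let f : Bool × H → G := fun a => (a.2 : G) * (if a.1 then s else 1)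
    have hle : Nat.card (pcSub gen ps (i + 1)) ≤ Nat.card (Bool × H) := by
      refine le_trans ?_ (Finite.card_range_le f)
      refine Nat.card_le_card_of_injective (fun z => ⟨z.1, ?_⟩) (fun a b e => Subtype.ext (congrArg (fun q : Set.range f => q.1) e))
      obtain ⟨b, a, ha, e⟩ := hsub z.1 z.2
      exact ⟨(b, ⟨a, ha⟩), e.symm⟩
    rw [Nat.card_prod, Nat.card_eq_fintype_card (α := Bool), Fintype.card_bool] at hle
    have := ih (by omega)
    rw [pow_succ]
    omega

/-- The members are words in the listed ones. -/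
noncomputable def pcGenB (k : ℕ) (cs ps qs : List ℕ) (gw : List (List ℕ)) : Bool :=
  allB (fun q => memB q ps) qs &&
    allBelow ps.length fun i => allB (fun a => memB a qs) (gw.getD i []) &&
      sameB k cs [ps.getD i 0] (gw.getD i [])

/-- An orbit closed under the listed generators, with its index table. -/
noncomputable def orbitB (cs qs : List ℕ) (m : ℕ) (O : Arr ℕ) (nxt : Arr ℕ) : Bool :=
  allBelow m fun i => Nat.blt (O.get 0 i) (Nat.shiftLeft 1 24) && forceN (O.get 0 i) fun v =>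
    forceN (nxt.get 0 i) fun row =>
      allBelow qs.length fun g => Nat.blt (getField 16 row g) m &&
        Nat.beq (mapply (cs.getD (qs.getD g 0) 0) v) (O.get 0 (getField 16 row g))

/-- Points of an orbit fixed by the stabilising words are listed. -/
noncomputable def candB (cs qs : List ℕ) (m : ℕ) (O : Arr ℕ) (hs : List (List ℕ)) (C : List ℕ) : Bool :=
  Nat.blt 0 m &&
  allB (fun h => allB (fun a => memB a qs) h && Nat.beq (appL cs h (O.get 0 0)) (O.get 0 0)) hs &&
    allBelow m fun i => memB i C ||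
      forceN (O.get 0 i) fun v => !(allB (fun h => Nat.beq (appL cs h v) v) hs)

/-- The value of a combination of words at two vectors. -/
noncomputable def combV (cs : List ℕ) (comb : List (Bool × List ℕ)) (u v : ℕ) : ℕ :=
  List.rec (motive := fun _ => ℕ) 0
    (fun p _ r => Nat.xor (appL cs p.2 (cond p.1 v u)) r) comb

/-- The data of the centre certificate. -/
structure CentData where
  /-- The first orbit. -/
  m0 : ℕ
  /-- Its points. -/
  O0 : Arr ℕ
  /-- Its index table. -/
  n0 : Arr ℕ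
  /-- Stabilising words. -/
  h0 : List (List ℕ)
  /-- Candidates. -/
  C0 : List ℕ
  /-- The second orbit. -/
  m1 : ℕ
  /-- Its points. -/
  O1 : Arr ℕ
  /-- Its index table. -/
  n1 : Arr ℕ
  /-- Stabilising words. -/
  h1 : List (List ℕ)
  /-- Candidates. -/
  C1 : List ℕ
  /-- The unit vectors as combinations. -/
  combs : List (List (Bool × List ℕ))
  /-- For each pair of candidates a code and digits. -/
  cases : List (List (ℕ × List ℕ))

/-- A code is that of one of two listed words, or of no element. -/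
noncomputable def caseB (cs : List ℕ) (D : List Lv) (base : List ℕ) (t c : ℕ) (js : List ℕ) : Bool :=
  (allBelow 24 fun i => forceN (Nat.shiftLeft 1 i) fun e => Nat.beq (mapply c e) e) ||
    (allBelow 24 fun i => forceN (Nat.shiftLeft 1 i) fun e =>
      Nat.beq (mapply c e) (mapply (cs.getD t 0) e)) ||
    siftFail cs c D base js []

/-- The check of the centre certificate. -/
noncomputable def CentData.okB (Z : CentData) (cs qs : List ℕ) (D : List Lv) (base : List ℕ) (t : ℕ) :
    Bool :=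
  orbitB cs qs Z.m0 Z.O0 Z.n0 && candB cs qs Z.m0 Z.O0 Z.h0 Z.C0 &&
  orbitB cs qs Z.m1 Z.O1 Z.n1 && candB cs qs Z.m1 Z.O1 Z.h1 Z.C1 &&
    (allBelow 24 fun i => allB (fun p => allB (fun a => memB a qs) p.2) (Z.combs.getD i []) &&
      Nat.beq (combV cs (Z.combs.getD i []) (Z.O0.get 0 0) (Z.O1.get 0 0)) (Nat.shiftLeft 1 i)) &&
    allBelow Z.C0.length fun a => allBelow Z.C1.length fun b =>
      forceN ((Z.cases.getD a []).getD b (0, [])).1 fun c =>
        (allBelow 24 fun i => forceN (Nat.shiftLeft 1 i) fun e => Nat.beq (mapply c e)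
          (combV cs (Z.combs.getD i []) (Z.O0.get 0 (Z.C0.getD a 0)) (Z.O1.get 0 (Z.C1.getD b 0)))) &&
          caseB cs D base t c ((Z.cases.getD a []).getD b (0, [])).2

theorem valFn_zero (hr : LinRep ι) (z : G) : valFn ι z 0 = 0 := by
  have := valFn_xor hr z 0 0 (by norm_num) (by norm_num)
  rwa [Nat.xor_self, Nat.xor_self] at this

theorem valFn_mul (a b : G) (x : ℕ) (hx : x < 2 ^ 24) :
    valFn ι (a * b) x = valFn ι a (valFn ι b x) ∧ valFn ι b x < 2 ^ 24 := by
  have h2 : valFn ι b x < 2 ^ 24 := by rw [valFn, dif_pos hx]; exact Fin.is_lt _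
  refine ⟨?_, h2⟩
  rw [valFn, dif_pos hx, valFn, dif_pos h2, map_mul, Equiv.Perm.mul_apply]
  exact congrArg (fun q => (ι a q : ℕ)) (Fin.ext (show _ = valFn ι b x by rw [valFn, dif_pos hx]))

theorem orbit_closed [Finite G] (hc : CodedL k ι gen cs) {qs : List ℕ} (hq : ∀ q ∈ qs, q < k)
    {m : ℕ} {O nxt : Arr ℕ} (h : orbitB cs qs m O nxt = true) {z : G}
    (hz : z ∈ Subgroup.closure (gen '' {q | q ∈ qs})) :
    ∀ i < m, ∃ j < m, valFn ι z (O.get 0 i) = O.get 0 j := by
  have hlt : ∀ i < m, O.get 0 i < 2 ^ 24 := fun i hi => by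
    have := allBelow_eq_true.mp h i hi
    simp only [Bool.and_eq_true, Nat.blt_eq] at this
    rw [← Nat.one_shiftLeft]
    exact this.1
  have hz' : z ∈ Submonoid.closure (gen '' {q | q ∈ qs}) := by
    rw [← Subgroup.closure_toSubmonoid_of_finite]
    exact hz
  clear hz
  induction hz' using Submonoid.closure_induction with
  | mem x hx =>
    obtain ⟨q, hq', rfl⟩ := hx
    intro i hi
    have := allBelow_eq_true.mp h i hi
    simp only [Bool.and_eq_true, forceN_eq] at this
    obtain ⟨g, hg, hge⟩ := List.mem_iff_getElem.mp hq'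
    have hh := allBelow_eq_true.mp this.2 g hg
    simp only [Bool.and_eq_true, Nat.blt_eq, Nat.beq_eq] at hh
    refine ⟨_, hh.1, ?_⟩
    rw [← hh.2, List.getD_eq_getElem _ _ hg, hge, valFn, dif_pos (hlt i hi)]
    exact hc q (hq q hq') ⟨_, hlt i hi⟩
  | one =>
    intro i hi
    exact ⟨i, hi, by rw [valFn, dif_pos (hlt i hi), map_one]; rfl⟩
  | mul x y _ _ hx hy =>
    intro i hi
    obtain ⟨j, hj, ej⟩ := hy i hi
    obtain ⟨l, hl, el⟩ := hx j hj
    exact ⟨l, hl, by rw [(valFn_mul x y _ (hlt i hi)).1, ej, el]⟩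

theorem word_mem_closure {qs : List ℕ} {h : List ℕ} (hh : ∀ a ∈ h, a ∈ qs) :
    evalW gen h ∈ Subgroup.closure (gen '' {q | q ∈ qs}) :=
  list_prod_mem fun y hy => by
    obtain ⟨a, ha, rfl⟩ := List.mem_map.mp hy
    exact Subgroup.subset_closure ⟨a, hh a ha, rfl⟩

theorem cand_spec [Finite G] (hc : CodedL k ι gen cs) {qs : List ℕ} (hq : ∀ q ∈ qs, q < k)
    {m : ℕ} {O nxt : Arr ℕ} (ho : orbitB cs qs m O nxt = true) {hs : List (List ℕ)} {C : List ℕ}
    (h : candB cs qs m O hs C = true) {z : G} (hz : z ∈ Subgroup.closure (gen '' {q | q ∈ qs}))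
    (hcomm : ∀ x ∈ Subgroup.closure (gen '' {q | q ∈ qs}), z * x = x * z) :
    O.get 0 0 < 2 ^ 24 ∧ ∃ i ∈ C, valFn ι z (O.get 0 0) = O.get 0 i := by
  simp only [candB, Bool.and_eq_true, Nat.blt_eq] at h
  obtain ⟨⟨hm, hstab⟩, hall⟩ := h
  have hlt : ∀ i < m, O.get 0 i < 2 ^ 24 := fun i hi => by
    have := allBelow_eq_true.mp ho i hi
    simp only [Bool.and_eq_true, Nat.blt_eq] at this
    rw [← Nat.one_shiftLeft]
    exact this.1
  refine ⟨hlt 0 hm, ?_⟩
  obtain ⟨i, hi, ei⟩ := orbit_closed hc hq ho hz 0 hm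
  refine ⟨i, ?_, ei⟩
  have hi' := allBelow_eq_true.mp hall i hi
  simp only [Bool.or_eq_true, forceN_eq, Bool.not_eq_true'] at hi'
  rcases hi' with hi' | hi'
  · exact memB_eq_true.mp hi'
  exfalso
  rw [allB_of_forall fun h hh => ?_] at hi'
  · exact Bool.noConfusion hi'
  have hs' := allB_spec hstab h hh
  simp only [Bool.and_eq_true, Nat.beq_eq] at hs'
  have hmem : ∀ a ∈ h, a ∈ qs := fun a ha => memB_eq_true.mp (allB_spec hs'.1 a ha)
  have hk : ∀ a ∈ h, a < k := fun a ha => hq a (hmem a ha)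
  rw [Nat.beq_eq, ← valFn_word hc hk (hlt i hi), ← ei, ← (valFn_mul _ z _ (hlt 0 hm)).1,
    ← hcomm _ (word_mem_closure hmem), (valFn_mul z _ _ (hlt 0 hm)).1,
    valFn_word hc hk (hlt 0 hm), hs'.2]

theorem combV_spec (hr : LinRep ι) (hc : CodedL k ι gen cs) {z : G} {u v : ℕ} (hu : u < 2 ^ 24)
    (hv : v < 2 ^ 24) : ∀ {comb : List (Bool × List ℕ)},
      (∀ p ∈ comb, (∀ a ∈ p.2, a < k) ∧ z * evalW gen p.2 = evalW gen p.2 * z) →
      combV cs comb u v < 2 ^ 24 ∧
        valFn ι z (combV cs comb u v) = combV cs comb (valFn ι z u) (valFn ι z v)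
  | [], _ => ⟨by norm_num [combV], valFn_zero hr z⟩
  | (side, wd) :: comb, h => by
    obtain ⟨hk, hcm⟩ := h (side, wd) (by simp)
    obtain ⟨h1, h2⟩ := combV_spec hr hc (z := z) hu hv (comb := comb)
      fun p hp => h p (List.mem_cons_of_mem _ hp)
    have key : ∀ x, x < 2 ^ 24 → appL cs wd x < 2 ^ 24 ∧
        valFn ι z (appL cs wd x) = appL cs wd (valFn ι z x) := by
      intro x hx
      obtain ⟨e1, l1⟩ := valFn_mul (ι := ι) z (evalW gen wd) x hx
      obtain ⟨e2, l2⟩ := valFn_mul (ι := ι) (evalW gen wd) z x hx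
      rw [valFn_word hc hk hx] at e1 l1
      rw [hcm, e2, valFn_word hc hk l2] at e1
      exact ⟨l1, e1.symm⟩
    have hx : cond side v u < 2 ^ 24 := by cases side <;> assumption
    obtain ⟨l, e⟩ := key _ hx
    have hstep : ∀ a b, combV cs ((side, wd) :: comb) a b =
        appL cs wd (cond side b a) ^^^ combV cs comb a b := fun _ _ => rfl
    rw [hstep, hstep]
    refine ⟨Nat.xor_lt_two_pow l h1, ?_⟩
    rw [valFn_xor hr z _ _ l h1, e, h2]
    cases side <;> rfl

/-- The central elements of the subgroup. -/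
theorem centre_spec [Finite G] (hr : LinRep ι) (hc : CodedL k ι gen cs) {qs : List ℕ}
    (hq : ∀ q ∈ qs, q < k) {D : List Lv} {base : List ℕ} (hD : chainOK k cs D base = true)
    (hcard : numForms D = Nat.card G) {t : ℕ} (ht : t < k) {Z : CentData}
    (h : Z.okB cs qs D base t = true) {z : G} (hz : z ∈ Subgroup.closure (gen '' {q | q ∈ qs}))
    (hcomm : ∀ x ∈ Subgroup.closure (gen '' {q | q ∈ qs}), z * x = x * z) :
    z = 1 ∨ z = gen t := by
  simp only [CentData.okB, Bool.and_eq_true] at h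
  obtain ⟨⟨⟨⟨⟨o0, c0⟩, o1⟩, c1⟩, hcomb⟩, hcases⟩ := h
  obtain ⟨hu, i0, hi0, e0⟩ := cand_spec hc hq o0 c0 hz hcomm
  obtain ⟨hv, i1, hi1, e1⟩ := cand_spec hc hq o1 c1 hz hcomm
  obtain ⟨a, ha, rfl⟩ := List.mem_iff_getElem.mp hi0
  obtain ⟨b, hb, rfl⟩ := List.mem_iff_getElem.mp hi1
  have hab := allBelow_eq_true.mp (allBelow_eq_true.mp hcases a ha) b hb
  simp only [forceN_eq, Bool.and_eq_true, List.getD_eq_getElem _ _ ha,
    List.getD_eq_getElem _ _ hb] at hab
  set c := ((Z.cases.getD a []).getD b (0, [])).1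
  have hzc : HasL ι z c := by
    refine hasL_of_units hr fun i hi => ?_
    have hcc := allBelow_eq_true.mp hcomb i hi
    simp only [Bool.and_eq_true, Nat.beq_eq, show Nat.shiftLeft 1 i = 2 ^ i from Nat.one_shiftLeft i]
      at hcc
    obtain ⟨-, hspec⟩ := combV_spec hr hc (z := z) hu hv (comb := Z.combs.getD i []) fun p hp => by
      have hm := allB_spec hcc.1 p hp
      exact ⟨fun x hx => hq x (memB_eq_true.mp (allB_spec hm x hx)),
        hcomm _ (word_mem_closure fun x hx => memB_eq_true.mp (allB_spec hm x hx))⟩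
    rw [hcc.2, e0, e1] at hspec
    have hi' := allBelow_eq_true.mp hab.1 i hi
    simp only [Nat.beq_eq, show Nat.shiftLeft 1 i = 2 ^ i from Nat.one_shiftLeft i] at hi'
    rw [hspec, hi']
  have hcase := hab.2
  simp only [caseB, Bool.or_eq_true] at hcase
  rcases hcase with (h1 | h1) | h1
  · refine Or.inl (eq_of_valFn hr fun i hi => ?_)
    have hi' := allBelow_eq_true.mp h1 i hi
    simp only [forceN_eq, Nat.beq_eq, show Nat.shiftLeft 1 i = 2 ^ i from Nat.one_shiftLeft i] at hi'
    rw [valFn, dif_pos (two_pow_lt hi), hzc, hi', valFn, dif_pos (two_pow_lt hi), map_one]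
    rfl
  · refine Or.inr (eq_of_valFn hr fun i hi => ?_)
    have hi' := allBelow_eq_true.mp h1 i hi
    simp only [forceN_eq, Nat.beq_eq, show Nat.shiftLeft 1 i = 2 ^ i from Nat.one_shiftLeft i] at hi'
    rw [valFn, dif_pos (two_pow_lt hi), hzc, hi', valFn, dif_pos (two_pow_lt hi), hc t ht]
  · exfalso
    obtain ⟨hw, hg, hd⟩ := chainOK_spec hD
    obtain ⟨y, hy, e⟩ := nf_surjective hc hD hcard z
    refine siftFail_ne hc hzc hw hg hd (by simp) h1 y hy ?_
    rw [show evalW gen [] = 1 from rfl, one_mul, e]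

/-- An element which is the only central one in a Sylow two-subgroup goes to a conjugate. -/
theorem same_class_of_central [Finite G] {t : G} (ht : orderOf t = 2) (T : Subgroup G) {a : ℕ}
    (hT : Nat.card T = 2 ^ a) (ha : (Nat.card G).factorization 2 = a) (htT : t ∈ T)
    (htc : ∀ x ∈ T, t * x = x * t) (huniq : ∀ z ∈ T, (∀ x ∈ T, z * x = x * z) → z = 1 ∨ z = t)
    (φ : MulAut G) : IsConj t (φ t) := by
  have := Fact.mk Nat.prime_two
  let P : Sylow 2 G := Sylow.ofCard T (by rw [hT, ha])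
  have hT' : Nat.card (T.map φ.toMonoidHom) = 2 ^ a := by
    rw [Subgroup.card_map_of_injective φ.injective, hT]
  let P' : Sylow 2 G := Sylow.ofCard (T.map φ.toMonoidHom) (by rw [hT', ha])
  obtain ⟨c, hc⟩ := MulAction.exists_smul_eq G P' P
  have hmap : ∀ x, x ∈ T → c * φ x * c⁻¹ ∈ T := by
    intro x hx
    show _ ∈ (P : Subgroup G)
    rw [← hc, Sylow.coe_subgroup_smul]
    exact Subgroup.smul_mem_pointwise_smul _ (MulAut.conj c) _ ⟨x, hx, rfl⟩
  have hsurj : ∀ y ∈ T, ∃ x ∈ T, c * φ x * c⁻¹ = y := by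
    intro y hy
    have hy' : y ∈ (P : Subgroup G) := hy
    rw [← hc, Sylow.coe_subgroup_smul, Subgroup.mem_pointwise_smul_iff_inv_smul_mem] at hy'
    obtain ⟨x, hx, e⟩ := hy'
    refine ⟨x, hx, ?_⟩
    have e' : φ x = (MulAut.conj c)⁻¹ y := e
    rw [e', MulAut.conj_inv_apply]
    group
  have hz : c * φ t * c⁻¹ = 1 ∨ c * φ t * c⁻¹ = t := by
    refine huniq _ (hmap t htT) fun y hy => ?_
    obtain ⟨x, hx, rfl⟩ := hsurj y hy
    calc c * φ t * c⁻¹ * (c * φ x * c⁻¹) = c * φ (t * x) * c⁻¹ := by rw [map_mul]; group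
      _ = c * φ (x * t) * c⁻¹ := by rw [htc x hx]
      _ = _ := by rw [map_mul]; group
  rcases hz with hz | hz
  · exfalso
    have h1 : φ t = 1 := by
      rwa [mul_inv_eq_one, ← eq_inv_mul_iff_mul_eq, inv_mul_cancel] at hz
    rw [← MulEquiv.orderOf_eq φ, h1, orderOf_one] at ht
    omega
  · exact (isConj_iff.mpr ⟨c, hz⟩).symm

end Cfsg.Agent.OutLin
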