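import Cfsg.Agent.OutLin.Chain
import Cfsg.Agent.OutTab.Criterion

/-!
A table of a conjugacy class up to conjugation by an element of prime order, in matrices.
-/

set_option autoImplicit false

namespace Cfsg.Agent.OutLin

open Cfsg.Agent.Compute Cfsg.Agent.StemCert
open Cfsg.Agent.OutTab (Tab look condWord condCodes signExp condWord_lt)

variable (T : Tab) (q : ℕ)

/-- One link of the tree. -/
noncomputable def linkL (k : ℕ) (cs : List ℕ) (t j : ℕ) : Bool :=
  cond (Nat.beq j 0)
    (Nat.beq (T.rep j) (cs.getD t 0))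
    (Nat.blt (T.par j) j && Nat.blt (Nat.mod (T.via j) 256) k && Nat.blt (Nat.div (T.via j) 256) k &&
      forceN (cs.getD (Nat.mod (T.via j) 256) 0) fun s =>
      forceN (cs.getD (Nat.div (T.via j) 256) 0) fun x =>
      forceN (T.rep j) fun c => forceN (T.rep (T.par j)) fun d =>
        allBelow 24 fun i => forceN (Nat.shiftLeft 1 i) fun e =>
          Nat.beq (mapply c (mapply s (mapply x e))) (mapply s (mapply x (mapply d e))))

/-- A listed element at a vector. -/
noncomputable def imgL (xs : List ℕ) (j m x : ℕ) : ℕ :=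
  mapply (xs.getD m 0) (mapply (T.rep j) (mapply (xs.getD (Nat.mod (Nat.sub q m) q) 0) x))

/-- The key of a listed element. -/
noncomputable def keyL (xs pts : List ℕ) (j m : ℕ) : ℕ :=
  List.rec (motive := fun _ => ℕ) 0
    (fun p _ r => Nat.add (imgL T q xs j m p) (Nat.shiftLeft r 24)) pts

/-- A representative has the least key among its conjugates, and its rank is right. -/
noncomputable def leastL (xs pts : List ℕ) (j : ℕ) : Bool :=
  forceN (keyL T q xs pts j 0) fun K =>
    allBelow (Nat.sub q 1) (fun m => Nat.blt K (keyL T q xs pts j (Nat.succ m))) &&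
      Nat.blt (T.rk j) T.size && Nat.beq (look T.ord (T.rk j)) j

/-- The keys increase in the given order. -/
noncomputable def sortL (xs pts : List ℕ) (i : ℕ) : Bool :=
  Nat.beq (Nat.succ i) T.size ||
    Nat.blt (keyL T q xs pts (look T.ord i) 0) (keyL T q xs pts (look T.ord (Nat.succ i)) 0)

/-- A representative fails a condition, except the first with positive sign. -/
noncomputable def refuteL (xs : List ℕ) (conds : List (List ℕ × ℕ)) (j : ℕ) : Bool :=
  allBelow 2 fun e => (Nat.beq j 0 && Nat.beq e 0) ||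
    forceN (Nat.mod (T.wit j e) 64) fun ci => forceN (Nat.div (T.wit j e) 64) fun i =>
      Nat.blt ci conds.length && Nat.blt i 24 &&
        forceN (Nat.shiftLeft 1 i) fun x =>
          !(Nat.beq (appL (condCodes q xs (signExp q e) (T.rep j))
            (condWord q (conds.getD ci ([], 0))) x) x)

/-- The codes of the powers of an element of order dividing `q`. -/
def PowL {G : Type*} [Group G] (q : ℕ) (ι : G →* Equiv.Perm (Fin (2 ^ 24))) (X : G) (xs : List ℕ) :
    Prop :=
  X ^ q = 1 ∧ CodedL q ι (fun m => X ^ m) xs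

/-- The powers are given by letters. -/
noncomputable def powB (k : ℕ) (cs xs : List ℕ) (ls : List ℕ) : Bool :=
  eqL cs (List.replicate q 0) [] && allBelow q fun m =>
    Nat.blt (ls.getD m 0) k && Nat.beq (xs.getD m 0) (cs.getD (ls.getD m 0) 0) &&
      eqL cs [ls.getD m 0] (List.replicate m 0)

variable {T} {q}
variable {k : ℕ} {G : Type*} [Group G] {ι : G →* Equiv.Perm (Fin (2 ^ 24))} {gen : ℕ → G}
  {cs pts xs : List ℕ} {X : G}

theorem powL_of_check (hr : LinRep ι) (hc : CodedL k ι gen cs) (hk : 0 < k) {ls : List ℕ}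
    (h : powB q k cs xs ls = true) : PowL q ι (gen 0) xs := by
  simp only [powB, Bool.and_eq_true] at h
  have hrep : ∀ m, ∀ s ∈ List.replicate m 0, s < k := fun m s hs => (List.eq_of_mem_replicate hs) ▸ hk
  refine ⟨?_, fun m hm => ?_⟩
  · have := eq_of_eqL hr hc (hrep q) (by simp) h.1
    rwa [evalW_replicate] at this
  · have hm' := allBelow_eq_true.mp h.2 m hm
    simp only [Bool.and_eq_true, Nat.blt_eq, Nat.beq_eq] at hm'
    have e := eq_of_eqL hr hc (a := [ls.getD m 0]) (fun s hs => by rw [List.mem_singleton.mp hs]; exact hm'.1.1) (hrep m) hm'.2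
    rw [evalW_replicate, show evalW gen [ls.getD m 0] = gen (ls.getD m 0) by simp [evalW]] at e
    show HasL ι (gen 0 ^ m) _
    rw [← e, hm'.1.2]
    exact hc _ hm'.1.1

theorem exists_repL (hr : LinRep ι) (hc : CodedL k ι gen cs) {t : ℕ} (ht : t < k)
    (h : ∀ j < T.size, linkL T k cs t j = true) :
    ∀ j < T.size, ∃ a : G, HasL ι (a * gen t * a⁻¹) (T.rep j) := by
  intro j
  induction j using Nat.strong_induction_on with
  | _ j ih =>
    intro hj
    have hl := h j hj
    rw [linkL] at hl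
    cases hj0 : Nat.beq j 0
    · rw [hj0, cond_false] at hl
      simp only [Bool.and_eq_true, Nat.blt_eq, forceN_eq] at hl
      obtain ⟨⟨⟨hp, hv⟩, hm⟩, he⟩ := hl
      obtain ⟨a, ha⟩ := ih _ hp (hp.trans hj)
      set v := Nat.mod (T.via j) 256
      set u := Nat.div (T.via j) 256
      refine ⟨gen v * gen u * a, fun r => ?_⟩
      obtain ⟨p, rfl⟩ := (ι (gen v * gen u)).surjective r
      have key : ∀ x < 2 ^ 24, mapply (T.rep j) (mapply (cs.getD v 0) (mapply (cs.getD u 0) x)) =
          mapply (cs.getD v 0) (mapply (cs.getD u 0) (mapply (T.rep (T.par j)) x)) := by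
        refine eq_of_units (fun a b _ _ => by simp only [mapply_xor])
          (fun a b _ _ => by simp only [mapply_xor]) fun i hi => ?_
        have := allBelow_eq_true.mp he i hi
        rwa [Nat.beq_eq, show Nat.shiftLeft 1 i = 2 ^ i from Nat.one_shiftLeft i] at this
      have e := key p p.2
      rw [← hc _ hm p, ← hc _ hv, ← ha p, ← hc _ hm, ← hc _ hv] at e
      rw [show gen v * gen u * a * gen t * (gen v * gen u * a)⁻¹ =
        gen v * gen u * (a * gen t * a⁻¹) * (gen v * gen u)⁻¹ by group, map_mul, map_inv,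
        Equiv.Perm.mul_apply, Equiv.Perm.inv_def, Equiv.symm_apply_apply, map_mul, map_mul]
      simp only [Equiv.Perm.mul_apply]
      exact e.symm
    · rw [hj0, cond_true, Nat.beq_eq] at hl
      refine ⟨1, ?_⟩
      rw [one_mul, inv_one, mul_one, hl]
      exact hc t ht

theorem imgL_spec (hX : PowL q ι X xs) (hq0 : 0 < q) {r : G} {j : ℕ}
    (hr : HasL ι r (T.rep j)) {m : ℕ} (hm : m < q) (p : Fin (2 ^ 24)) :
    (ι (X ^ m * r * (X ^ m)⁻¹) p : ℕ) = imgL T q xs j m p := by
  have hinv : (X ^ m)⁻¹ = X ^ ((q - m) % q) := by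
    refine inv_eq_of_mul_eq_one_right ?_
    rw [← pow_eq_pow_mod _ hX.1, ← pow_add, Nat.add_sub_cancel' hm.le, hX.1]
  rw [hinv, map_mul, map_mul, Equiv.Perm.mul_apply, Equiv.Perm.mul_apply, hX.2 m hm, hr,
    hX.2 _ (Nat.mod_lt _ hq0)]
  rfl

theorem keyL_congr {g : G} {j j' m m' : ℕ} {pts : List ℕ} (hlt : ∀ p ∈ pts, p < 2 ^ 24)
    (h : ∀ p : Fin (2 ^ 24), (ι g p : ℕ) = imgL T q xs j m p)
    (h' : ∀ p : Fin (2 ^ 24), (ι g p : ℕ) = imgL T q xs j' m' p) :
    keyL T q xs pts j m = keyL T q xs pts j' m' := by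
  induction pts with
  | nil => rfl
  | cons b bs ih =>
    have e : imgL T q xs j m b = imgL T q xs j' m' b :=
      ((h ⟨b, hlt b (by simp)⟩).symm.trans (h' ⟨b, hlt b (by simp)⟩) :)
    show Nat.add (imgL T q xs j m b) (Nat.shiftLeft (keyL T q xs bs j m) 24) =
      Nat.add (imgL T q xs j' m' b) (Nat.shiftLeft (keyL T q xs bs j' m') 24)
    rw [e, ih fun p hp => hlt p (List.mem_cons_of_mem _ hp)]

/-- Conjugates of distinct listed pairs are distinct. -/
theorem repL_injective (hX : PowL q ι X xs) (hq0 : 0 < q) (hpts : ∀ p ∈ pts, p < 2 ^ 24)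
    (hmin : ∀ j < T.size, leastL T q xs pts j = true)
    (hsort : ∀ i < T.size, sortL T q xs pts i = true) {r : ℕ → G}
    (hr : ∀ j < T.size, HasL ι (r j) (T.rep j)) {j j' m m' : ℕ} (hj : j < T.size)
    (hj' : j' < T.size) (hm : m < q) (hm' : m' < q)
    (he : X ^ m * r j * (X ^ m)⁻¹ = X ^ m' * r j' * (X ^ m')⁻¹) : j = j' ∧ m = m' := by
  have hkey : ∀ {a a' d d' : ℕ}, a < T.size → a' < T.size → d < q → d' < q →
      X ^ d * r a * (X ^ d)⁻¹ = X ^ d' * r a' * (X ^ d')⁻¹ →
      keyL T q xs pts a d = keyL T q xs pts a' d' := by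
    intro a a' d d' ha ha' hd hd' e
    exact keyL_congr hpts (fun p => imgL_spec hX hq0 (hr a ha) hd p)
      (fun p => by rw [e]; exact imgL_spec hX hq0 (hr a' ha') hd' p)
  have hleast : ∀ a < T.size, ∀ d < q, keyL T q xs pts a 0 ≤ keyL T q xs pts a d ∧
      (keyL T q xs pts a 0 = keyL T q xs pts a d → d = 0) := by
    intro a ha d hd
    have h := hmin a ha
    simp only [leastL, forceN_eq, Bool.and_eq_true] at h
    rcases Nat.eq_zero_or_pos d with rfl | hpos
    · exact ⟨le_rfl, fun _ => rfl⟩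
    · have := allBelow_eq_true.mp h.1.1 (d - 1) (show d - 1 < q - 1 by omega)
      rw [Nat.blt_eq, show Nat.succ (d - 1) = d by omega] at this
      exact ⟨this.le, fun e => absurd e this.ne⟩
  have hshift : ∀ {a a' d d' : ℕ}, d < q → d' < q →
      X ^ d * r a * (X ^ d)⁻¹ = X ^ d' * r a' * (X ^ d')⁻¹ →
      X ^ 0 * r a * (X ^ 0)⁻¹ = X ^ ((q - d + d') % q) * r a' * (X ^ ((q - d + d') % q))⁻¹ := by
    intro a a' d d' hd _ e
    rw [← pow_eq_pow_mod _ hX.1, pow_add, show X ^ (q - d) = (X ^ d)⁻¹ from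
      eq_inv_of_mul_eq_one_left (by rw [← pow_add, Nat.sub_add_cancel hd.le, hX.1])]
    calc X ^ 0 * r a * (X ^ 0)⁻¹ = (X ^ d)⁻¹ * (X ^ d * r a * (X ^ d)⁻¹) * X ^ d := by group
      _ = _ := by rw [e]; group
  have e1 := hshift hm hm' he
  have e2 := hshift hm' hm he.symm
  have k1 := hkey hj hj' hq0 (Nat.mod_lt _ hq0) e1
  have k2 := hkey hj' hj hq0 (Nat.mod_lt _ hq0) e2
  obtain ⟨l1, u1⟩ := hleast j' hj' _ (Nat.mod_lt (q - m + m') hq0)
  obtain ⟨l2, -⟩ := hleast j hj _ (Nat.mod_lt (q - m' + m) hq0)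
  have hk : keyL T q xs pts j 0 = keyL T q xs pts j' 0 := by omega
  have hrk : ∀ a < T.size, T.rk a < T.size ∧ look T.ord (T.rk a) = a := by
    intro a ha
    have h := hmin a ha
    simp only [leastL, forceN_eq, Bool.and_eq_true, Nat.blt_eq, Nat.beq_eq] at h
    exact ⟨h.1.2, h.2⟩
  have hmono : ∀ a b, a < b → b < T.size →
      keyL T q xs pts (look T.ord a) 0 < keyL T q xs pts (look T.ord b) 0 := by
    intro a b hab
    induction b with
    | zero => omega
    | succ b ih =>
      intro hb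
      have hs := hsort b (by omega)
      simp only [sortL, Bool.or_eq_true, Nat.beq_eq, Nat.blt_eq, Nat.succ_eq_add_one] at hs
      rcases hs with hs | hs
      · omega
      rcases Nat.lt_succ_iff_lt_or_eq.mp hab with h1 | h1
      · exact (ih h1 (by omega)).trans hs
      · subst h1; exact hs
  have hjj : j = j' := by
    obtain ⟨a1, b1⟩ := hrk j hj
    obtain ⟨a2, b2⟩ := hrk j' hj'
    rw [← b1, ← b2] at hk ⊢
    rcases Nat.lt_trichotomy (T.rk j) (T.rk j') with h | h | h
    · exact absurd hk (hmono _ _ h a2).ne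
    · rw [h]
    · exact absurd hk (hmono _ _ h a1).ne'
  refine ⟨hjj, ?_⟩
  have h0 := u1 (hk.symm.trans k1)
  obtain ⟨c, hc⟩ := Nat.dvd_of_mod_eq_zero h0
  rcases Nat.lt_or_ge c 2 with hc2 | hc2
  · interval_cases c <;> omega
  · have : q * 2 ≤ q * c := Nat.mul_le_mul_left q hc2
    omega

/-- What a checked table gives. -/
theorem class_eqL [Finite G] (hl : LinRep ι) (hc : CodedL k ι gen cs) {t : ℕ} (ht : t < k)
    (hlink : ∀ j < T.size, linkL T k cs t j = true)
    (hX : PowL q ι X xs) (hq0 : 0 < q) (hpts : ∀ p ∈ pts, p < 2 ^ 24)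
    (hmin : ∀ j < T.size, leastL T q xs pts j = true)
    (hsort : ∀ i < T.size, sortL T q xs pts i = true) {N : ℕ}
    (hcent : N ≤ Nat.card (Subgroup.centralizer ({gen t} : Set G)))
    (hN : Nat.card G = q * T.size * N) :
    ∀ g, IsConj (gen t) g → ∃ j < T.size, ∃ (m : ℕ) (r : G),
      m < q ∧ HasL ι r (T.rep j) ∧ g = X ^ m * r * (X ^ m)⁻¹ := by
  classical
  choose a ha using exists_repL hl hc ht hlink
  let r : ℕ → G := fun j => if h : j < T.size then a j h * gen t * (a j h)⁻¹ else 1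
  have hr : ∀ j < T.size, HasL ι (r j) (T.rep j) := fun j hj => by
    simp only [r, dif_pos hj]; exact ha j hj
  let f : Fin T.size × Fin q → {g : G // IsConj (gen t) g} := fun i =>
    ⟨X ^ (i.2 : ℕ) * r i.1 * (X ^ (i.2 : ℕ))⁻¹,
      isConj_iff.mpr ⟨X ^ (i.2 : ℕ) * a i.1 i.1.2, by simp only [r, dif_pos i.1.2]; group⟩⟩
  have hf : Function.Injective f := fun i i' e => by
    obtain ⟨e1, e2⟩ := repL_injective hX hq0 hpts hmin hsort hr i.1.2 i'.1.2 i.2.2 i'.2.2
      (congrArg Subtype.val e)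
    exact Prod.ext (Fin.ext e1) (Fin.ext e2)
  have hclass : Nat.card {g : G // IsConj (gen t) g} *
      Nat.card (Subgroup.centralizer ({gen t} : Set G)) = Nat.card G := by
    have h := Nat.card_congr (MulAction.orbitProdStabilizerEquivGroup (ConjAct G) (gen t))
    rw [Nat.card_prod] at h
    have e1 : Nat.card {g : G // IsConj (gen t) g} = Nat.card (MulAction.orbit (ConjAct G) (gen t)) :=
      Nat.card_congr (Equiv.subtypeEquivRight fun g => by
        rw [ConjAct.mem_orbit_conjAct, isConj_comm])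
    have e2 : Nat.card (Subgroup.centralizer ({gen t} : Set G)) =
        Nat.card (MulAction.stabilizer (ConjAct G) (gen t)) :=
      Nat.card_congr (ConjAct.toConjAct.toEquiv.subtypeEquiv fun g => by
        rw [Subgroup.mem_centralizer_singleton_iff, MulAction.mem_stabilizer_iff]
        show g * gen t = gen t * g ↔ ConjAct.toConjAct g • gen t = gen t
        rw [ConjAct.toConjAct_smul, mul_inv_eq_iff_eq_mul])
    rw [e1, e2, h]
    exact Nat.card_congr ConjAct.ofConjAct.toEquiv
  have hle : q * T.size ≤ Nat.card {g : G // IsConj (gen t) g} := by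
    have := Nat.card_le_card_of_injective f hf
    rwa [Nat.card_prod, Nat.card_fin, Nat.card_fin, Nat.mul_comm] at this
  have hN0 : 0 < N := Nat.pos_of_ne_zero fun h => by
    rw [h, mul_zero] at hN
    exact Nat.card_pos.ne' hN
  have h1 : Nat.card {g : G // IsConj (gen t) g} = q * T.size := by
    refine le_antisymm ?_ hle
    by_contra hgt
    have : (q * T.size + 1) * N ≤ Nat.card {g : G // IsConj (gen t) g} *
        Nat.card (Subgroup.centralizer ({gen t} : Set G)) := Nat.mul_le_mul (by omega) hcent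
    rw [hclass, hN, Nat.add_mul] at this
    omega
  intro g hg
  have hb : Function.Bijective f := (Nat.bijective_iff_injective_and_card f).mpr
    ⟨hf, by rw [h1, Nat.card_prod, Nat.card_fin, Nat.card_fin, Nat.mul_comm]⟩
  obtain ⟨i, hi⟩ := hb.2 ⟨g, hg⟩
  exact ⟨i.1, i.1.2, i.2, _, i.2.2, hr _ i.1.2, (congrArg Subtype.val hi).symm⟩

theorem cond_codedL (hX : PowL q ι X xs) (hq0 : 0 < q) {r : G} {c e : ℕ} (hr : HasL ι r c) :
    CodedL (q + 1) ι (fun a => if a < q then X ^ (e * a) else r) (condCodes q xs e c) := by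
  intro a ha x
  show (ι (if a < q then X ^ (e * a) else r) x : ℕ) = _
  rcases Nat.lt_or_ge a q with h | h
  · rw [if_pos h, pow_eq_pow_mod _ hX.1, hX.2 _ (Nat.mod_lt _ hq0)]
    simp [condCodes, List.getD_eq_getElem?_getD, List.getElem?_append, h]
    rfl
  · obtain rfl : a = q := by omega
    rw [if_neg (lt_irrefl a), hr]
    simp [condCodes, List.getD_eq_getElem?_getD]

/-- The images of `t` under automorphisms with `X ↦ X ^ ±1`. -/
theorem solutionsL (hX : PowL q ι X xs) (hq0 : 0 < q)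
    {conds : List (List ℕ × ℕ)} (hconds : ∀ c ∈ conds, ∀ a ∈ c.1, a < q) {t : G}
    (ht : ∀ c ∈ conds, evalW (fun a => if a < q then X ^ a else t) (condWord q c) = 1)
    (href : ∀ j < T.size, refuteL T q xs conds j = true) (φ : MulAut G) {e : ℕ}
    (he : e < 2) (hφ : φ X = X ^ signExp q e) {j m : ℕ} {r : G} (hj : j < T.size)
    (hr : HasL ι r (T.rep j)) (hm : φ t = X ^ m * r * (X ^ m)⁻¹) : j = 0 ∧ e = 0 := by
  have h := allBelow_eq_true.mp (href j hj) e he
  simp only [Bool.or_eq_true, Bool.and_eq_true, Nat.beq_eq, forceN_eq, Bool.not_eq_true',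
    Nat.blt_eq] at h
  rcases h with ⟨rfl, rfl⟩ | ⟨⟨hi, hp⟩, hne⟩
  · exact ⟨rfl, rfl⟩
  exfalso
  set ci := Nat.mod (T.wit j e) 64
  have hci : conds.getD ci ([], 0) ∈ conds := by
    rw [List.getD_eq_getElem _ _ hi]; exact List.getElem_mem hi
  set c := conds.getD ci ([], 0)
  have hmap := congrArg φ (ht c hci)
  rw [map_one, ← MulEquiv.coe_toMonoidHom, map_evalW] at hmap
  have hfun : ∀ s, (φ.toMonoidHom ∘ fun a => if a < q then X ^ a else t) s =
      X ^ m * (if s < q then X ^ (signExp q e * s) else r) * (X ^ m)⁻¹ := by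
    intro s
    change φ (if s < q then X ^ s else t) = _
    by_cases hs : s < q
    · rw [if_pos hs, if_pos hs, map_pow, hφ, ← pow_mul, ← pow_add, Nat.add_comm, pow_add,
        mul_inv_cancel_right]
    · rw [if_neg hs, if_neg hs, hm]
  rw [show φ.toMonoidHom ∘ (fun a => if a < q then X ^ a else t) =
    fun s => MulAut.conj (X ^ m) (if s < q then X ^ (signExp q e * s) else r) from funext hfun] at hmap
  rw [show evalW (fun s => MulAut.conj (X ^ m) (if s < q then X ^ (signExp q e * s) else r))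
      (condWord q c) = MulAut.conj (X ^ m) (evalW (fun s => if s < q then X ^ (signExp q e * s) else r)
        (condWord q c)) from (map_evalW (MulAut.conj (X ^ m)).toMonoidHom _ _).symm] at hmap
  rw [MulEquiv.map_eq_one_iff] at hmap
  simp only [show Nat.shiftLeft 1 (Nat.div (T.wit j e) 64) = 2 ^ Nat.div (T.wit j e) 64 from
    Nat.one_shiftLeft _] at hne
  have := appL_spec (cond_codedL (e := signExp q e) hX hq0 hr) (condWord q c)
    (condWord_lt (hconds c hci)) ⟨_, two_pow_lt hp⟩
  rw [hmap] at this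
  simp only [map_one, Equiv.Perm.one_apply] at this
  rw [← this] at hne
  simp at hne

/-- All automorphisms are inner when only one representative passes the conditions. -/
theorem card_out_of_tableL [Finite G] (hl : LinRep ι) (hX : PowL q ι (gen 0) xs) (hq : q.Prime)
    (hx : orderOf (gen 0) = q) (hsyl : ¬ q ^ 2 ∣ Nat.card G) {r : ℕ} {h : G}
    (hh : h * gen 0 * h⁻¹ = gen 0 ^ r)
    (hfin : ∀ k : Fin q, k.val ≠ 0 →
      ∃ j : Fin q, r ^ j.val * k.val % q = 1 ∨ r ^ j.val * k.val % q = q - 1)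
    {t : G} (hgen : Subgroup.closure ({gen 0, t} : Set G) = ⊤)
    (hsame : ∀ φ : MulAut G, IsConj t (φ t))
    (hclass : ∀ g, IsConj t g → ∃ j < T.size, ∃ (m : ℕ) (r : G),
      m < q ∧ HasL ι r (T.rep j) ∧ g = gen 0 ^ m * r * (gen 0 ^ m)⁻¹)
    (ht0 : HasL ι t (T.rep 0)) {conds : List (List ℕ × ℕ)}
    (hconds : ∀ c ∈ conds, ∀ a ∈ c.1, a < q)
    (ht : allB (fun c => eqL (condCodes q xs 1 (T.rep 0)) (condWord q c) []) conds = true)
    (href : ∀ j < T.size, refuteL T q xs conds j = true) : Nat.card (Cfsg.Out G) = 1 := by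
  have hrel : ∀ c ∈ conds, evalW (fun a => if a < q then gen 0 ^ a else t) (condWord q c) = 1 := by
    intro c hc
    have := eq_of_eqL hl (cond_codedL (e := 1) hX hq.pos ht0) (b := [])
      (condWord_lt (hconds c hc)) (by simp) (allB_spec ht c hc)
    simp only [one_mul] at this
    exact this.trans rfl
  refine OutTab.card_out_eq_one hgen (OutTab.exists_conj_to_sign hq hx hsyl hh hfin) hx fun φ hφ => ?_
  obtain ⟨e, he, hφe⟩ : ∃ e < 2, φ (gen 0) = gen 0 ^ signExp q e := by
    rcases hφ with h | h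
    · exact ⟨0, by norm_num, by rw [h]; exact (pow_one _).symm⟩
    · exact ⟨1, by norm_num, h⟩
  obtain ⟨j, hj, m, r, -, hr, hm⟩ := hclass _ (hsame φ)
  obtain ⟨rfl, rfl⟩ := solutionsL hX hq.pos hconds hrel href φ he hφe hj hr hm
  refine ⟨m, by rw [hφe]; exact pow_one _, ?_⟩
  rw [hm, eq_of_hasL hl hr ht0]

end Cfsg.Agent.OutLin
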